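import Groth.Agent.BddNumLib.Family
import Groth.Agent.BddFamLib.Basic

/-!
# Boundedness from bounded degree and self-intersection
-/

set_option autoImplicit false
set_option linter.style.haveILetI false
set_option maxHeartbeats 1000000
universe u

open CategoryTheory CategoryTheory.Limits AlgebraicGeometry TopologicalSpace Opposite
open HilbPolyLib DevissLib IntMultLib IntFunLib
open KFlatLib (pb)
open NumTrivLib (tw hq)

noncomputable section

namespace BddNumLib

variable {n : ℕ} {k : Type u} [Field k] [IsAlgClosed k] {X : Scheme.{u}} [X.Over (Spec (CommRingCat.of k))]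
  [IsProper (X ↘ Spec (CommRingCat.of k))] (i : X ⟶ CohB1.ProjSpace n k) [IsClosedImmersion i]

local notation "P" => CohB1.ProjSpace n k
local notation "O'" => Twist.twistProjSpace n k

omit [IsAlgClosed k] [IsClosedImmersion i] in
/-- The third difference of the twists vanishes. -/
theorem euler_rec (hX : topologicalKrullDim X ≤ (2 : ℕ)) {T : X.Modules} (hT : PicF.IsInvertible T) (d : ℤ) :
    Curv2.euler k X (CohB1.tensorMod T (twI i (d + 3))) - 3 * Curv2.euler k X (CohB1.tensorMod T (twI i (d + 2))) +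
      3 * Curv2.euler k X (CohB1.tensorMod T (twI i (d + 1))) - Curv2.euler k X (CohB1.tensorMod T (twI i d)) = 0 := by
  let H := twI i 1
  let G : ℤ → X.Modules := fun d => CohB1.tensorMod T (twI i d)
  have e : ∀ d, Nonempty (CohB1.tensorMod H (G d) ≅ G (d + 1)) := fun d => by
    obtain ⟨t⟩ := twI_add i d 1
    exact ⟨HilbPolyLib.leftComm _ _ _ ≪≫ congrRight T (swapIso _ _ ≪≫ t)⟩
  have h0 : N k [H, H, H] (G d) = 0 := N_low (by simp [H, twI_inv]) (isCoh_tensor hT
    (CurvLib.isCoh_of_isInvertible (twI_inv i d)))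
    (((topologicalKrullDim_subspace_le _ _).trans hX).trans_lt (by simp; norm_num))
  let a1 := (e d).some
  let a2 := congrRight H a1 ≪≫ (e (d + 1)).some
  let a3 := congrRight H a2 ≪≫ (e (d + 1 + 1)).some
  simp only [N] at h0
  rw [CurvLib.euler_congr a3, CurvLib.euler_congr a2, CurvLib.euler_congr a1] at h0
  rw [show d + 3 = d + 1 + 1 + 1 by ring, show d + 2 = d + 1 + 1 by ring]
  simp only [G] at h0
  linarith

omit [IsAlgClosed k] in
theorem eq_of_three {f g : ℤ → ℤ} (hf : ∀ d, f (d + 3) - 3 * f (d + 2) + 3 * f (d + 1) - f d = 0)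
    (hg : ∀ d, g (d + 3) - 3 * g (d + 2) + 3 * g (d + 1) - g d = 0)
    (h0 : f 0 = g 0) (h1 : f 1 = g 1) (h2 : f 2 = g 2) : ∀ d, f d = g d := by
  suffices ∀ d, f d = g d ∧ f (d + 1) = g (d + 1) ∧ f (d + 2) = g (d + 2) from fun d => (this d).1
  intro d
  induction d with
  | zero => exact ⟨h0, h1, h2⟩
  | succ d ih =>
    obtain ⟨a, b, c⟩ := ih
    refine ⟨b, by rw [show (d : ℤ) + 1 + 1 = d + 2 by ring]; exact c, ?_⟩
    have := hf (d : ℤ)
    have := hg (d : ℤ)
    rw [show (d : ℤ) + 1 + 2 = d + 3 by ring]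
    linarith
  | pred d ih =>
    obtain ⟨a, b, c⟩ := ih
    have e1 : -(d : ℤ) - 1 + 1 = -d := by ring
    have e2 : -(d : ℤ) - 1 + 2 = -d + 1 := by ring
    have e3 : -(d : ℤ) - 1 + 3 = -d + 2 := by ring
    refine ⟨?_, by rw [e1]; exact a, by rw [e2]; exact b⟩
    have := hf (-(d : ℤ) - 1)
    have := hg (-(d : ℤ) - 1)
    rw [e1, e2, e3] at *
    linarith

variable (hi : i ≫ CohB1.ProjSpace.toSpec n k = X ↘ Spec (CommRingCat.of k))
  {Fam : X.Modules → Prop} (hFam : IsFam i Fam)

include hi hFam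

/-- **Boundedness in dimension at most two.** -/
theorem isBounded_of_isFam (hX : topologicalKrullDim X ≤ (2 : ℕ)) : Pic13.IsBounded k X Fam := by
  classical
  haveI := CurvLib.isNoetherian k (X := X)
  haveI := MumfordLib.isProper_projSpace (n := n) k
  have hXn : topologicalKrullDim X ≤ (n : ℕ) :=
    (Topology.IsInducing.topologicalKrullDim_le i.isClosedEmbedding.isInducing).trans (MumfordLib.dim_le k)
  let O := Coh.structureModule X
  have hO : Coh.IsCoh O := DevissLib.isCoh_structureModule X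
  have hgood := good_all i hFam hi 3 le_rfl O hO (((topologicalKrullDim_subspace_le _ _).trans hX).trans_lt
    (by exact_mod_cast (by norm_num : (2 : ℕ) < 3)))
  obtain ⟨m, hm⟩ := hgood.van hFam.inv
  let g : X.Modules → ℤ → ℤ := fun T d => Curv2.euler k X (CohB1.tensorMod T (twI i d))
  -- the values are bounded
  have hbd : ∀ d : ℤ, ∃ b : ℕ, ∀ T, Fam T → |g T d| ≤ b := fun d => by
    obtain ⟨b0, h0⟩ := hgood.bdd 0 d
    obtain ⟨b1, h1⟩ := hgood.bdd 1 d
    obtain ⟨b2, h2⟩ := hgood.bdd 2 d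
    refine ⟨b0 + b1 + b2, fun T hT => ?_⟩
    have hTO := isCoh_tensor (hFam.inv T hT) hO
    have hc := isCoh_tensor (twI_inv i d) hTO
    have e : CohB1.tensorMod T (twI i d) ≅ CohB1.tensorMod (twI i d) (CohB1.tensorMod T O) :=
      congrRight T ((unitLeft _).symm ≪≫ swapIso _ _) ≪≫ HilbPolyLib.leftComm _ _ _
    have he : g T d = (hq k i (CohB1.tensorMod T O) 0 d : ℤ) - hq k i (CohB1.tensorMod T O) 1 d +
        hq k i (CohB1.tensorMod T O) 2 d := by
      change Curv2.euler k X (CohB1.tensorMod T (twI i d)) = _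
      rw [CurvLib.euler_congr e, CurvLib.euler_eq_sum (d := 3) fun q hq =>
        CurvLib.subsingleton_HH_of_dim_le _ hX q (by omega),
        Finset.sum_range_succ, Finset.sum_range_succ, Finset.sum_range_one, NumTrivLib.finrank_tw i hi hTO,
        NumTrivLib.finrank_tw i hi hTO, NumTrivLib.finrank_tw i hi hTO]
      ring
    have := h0 T hT
    have := h1 T hT
    have := h2 T hT
    rw [he, abs_le]
    push_cast
    constructor <;> omega
  choose b hb using hbd
  let B : ℤ := b 0 + b 1 + b 2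
  let ι := ULift.{u} (Fin 3 → Finset.Icc (-B) B)
  let Q : ι → X.Modules → Prop := fun v T => Fam T ∧ ∀ j : Fin 3, g T (j : ℕ) = v.down j
  refine NumTrivLib.isBounded_mono (BddFamLib.isBounded_fintype k X Q fun v => ?_) fun T hT => ?_
  swap
  · have hle : ∀ j : Fin 3, g T (j : ℕ) ∈ Finset.Icc (-B) B := fun j => by
      rw [Finset.mem_Icc, ← abs_le]
      refine (hb _ T hT).trans ?_
      fin_cases j <;> simp [B] <;> omega
    exact ⟨⟨fun j => ⟨_, hle j⟩⟩, hT, fun j => rfl⟩
  by_cases hne : ∃ T, Q v T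
  swap
  · exact NumTrivLib.isBounded_mono (BddFamLib.isBounded_empty k X) fun T h => hne ⟨T, h⟩
  obtain ⟨T₀, hT₀, hv₀⟩ := hne
  obtain ⟨Ψ, hΨ⟩ := QuotSchLib.exists_chi_field k (n := n)
    (NumTrivLib.isCoh_push k i (CurvLib.isCoh_of_isInvertible (hFam.inv T₀ hT₀)))
  have hconv : ∀ T, PicF.IsInvertible T → ∀ d : ℤ,
      MumfordLib.chi k ((Coh.push i).obj T) d = g T d ∧
      FGA.eulerCharLE k X (Pic13.twistOn k i T d) n = g T d := fun T hT d => by
    have hc := isCoh_tensor hT (CurvLib.isCoh_of_isInvertible (twI_inv i d))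
    haveI := hc.1
    refine ⟨?_, eulerCharLE_eq hXn _⟩
    obtain ⟨e⟩ := NumTrivLib.nonempty_tw_push i T d
    rw [MumfordLib.chi_eq_euler, CurvLib.euler_congr (k := k) (e ≪≫ (Coh.push i).mapIso (swapIso _ _)),
      ← (PushLinLib.euler_push k i hi _).2]
  refine NumTrivLib.isBounded_mono (Groth.Agent.S4285.result k n X i hi m Ψ) fun T hT => ?_
  obtain ⟨hT, hv⟩ := hT
  have hTi := hFam.inv T hT
  refine ⟨CurvLib.isCoh_of_isInvertible hTi, fun q hq => ?_, fun d => ?_⟩
  · have hTO := isCoh_tensor hTi hO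
    have e : CohB1.tensorMod (pb i (O' (m - q))) (CohB1.tensorMod T O) ≅ Pic13.twistOn k i T (m - q) :=
      congrRight _ (swapIso _ _ ≪≫ unitLeft T) ≪≫ swapIso _ _
    refine SerreVanLib.subsingleton_HH_of_iso e.symm q ?_
    obtain ⟨E⟩ := NumTrivLib.nonempty_HH_tw i hTO q (m - q)
    haveI := hm T hT q hq (m - q) le_rfl
    exact E.toEquiv.subsingleton
  · have heq := eq_of_three (f := g T) (g := g T₀) (euler_rec i hX hTi) (euler_rec i hX (hFam.inv T₀ hT₀))
      ((hv 0).trans (hv₀ 0).symm) ((hv 1).trans (hv₀ 1).symm) ((hv 2).trans (hv₀ 2).symm) d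
    rw [(hconv T hTi d).2, heq, ← (hconv T₀ (hFam.inv T₀ hT₀) d).1, hΨ d]

end BddNumLib

end
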