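import Groth.Agent.BddNumLib.Main
import Groth.Agent.MiscFlat6.AmpleGen
import Groth.Agent.AmpleDevLib.Components

/-!
# Translations: intersection numbers with inverses, and ample twists
-/

set_option autoImplicit false
set_option linter.style.haveILetI false
set_option maxHeartbeats 1000000
universe u

open CategoryTheory CategoryTheory.Limits AlgebraicGeometry TopologicalSpace Opposite
open HilbPolyLib DevissLib IntMultLib IntFunLib
open KFlatLib (pb)
open NumTrivLib (NT)
open CubeConsLib (cl cl_tensor cl_eq_iff cl_eq_one_iff)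

noncomputable section

namespace BddNumLib

variable {k : Type u} [Field k] {X : Scheme.{u}} [X.Over (Spec (CommRingCat.of k))]
  [IsProper (X ↘ Spec (CommRingCat.of k))]

/-- The intersection numbers in the inverses are those of the modules. -/
theorem intNum_conv {s : ℕ} (hX : topologicalKrullDim X ≤ ((s + 2 : ℕ) : WithBot ℕ∞)) {H H' L L' : X.Modules}
    (hH : PicF.IsInvertible H) (hL : PicF.IsInvertible L) (eH : CohB1.tensorMod H H' ≅ Coh.structureModule X)
    (eL : CohB1.tensorMod L L' ≅ Coh.structureModule X) :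
    FGA.intNum k X (s + 2) (Matrix.vecCons L' (fun _ : Fin (s + 1) => H')) (Coh.structureModule X) =
        N k (L :: List.replicate (s + 1) H) (Coh.structureModule X) ∧
      FGA.intNum k X (s + 2) (Matrix.vecCons L' (Matrix.vecCons L' (fun _ : Fin s => H'))) (Coh.structureModule X) =
        N k (L :: L :: List.replicate s H) (Coh.structureModule X) := by
  haveI := CurvLib.isNoetherian k (X := X)
  have hH' : PicF.IsInvertible H' := IntMultLib.isInvertible_of_inverse hH eH
  have hL' : PicF.IsInvertible L' := IntMultLib.isInvertible_of_inverse hL eL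
  have hO := DevissLib.isCoh_structureModule X
  have hdO : topologicalKrullDim (CohB1.support (Coh.structureModule X)) ≤ ((s + 2 : ℕ) : WithBot ℕ∞) :=
    (topologicalKrullDim_subspace_le _ _).trans hX
  have hinv : ∀ (j : ℕ), ∀ B ∈ List.replicate j H, PicF.IsInvertible B := fun j B hB => by
    rw [List.eq_of_mem_replicate hB]; exact hH
  have n1 : N k (L' :: List.replicate (s + 1) H') (Coh.structureModule X) =
      (-1) ^ (s + 2) * N k (L :: List.replicate (s + 1) H) (Coh.structureModule X) := by
    rw [N_perm (show (L' :: List.replicate (s + 1) H').Perm (List.replicate (s + 1) H' ++ [L']) from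
        (List.perm_append_singleton _ _).symm),
      BertiniIrrLib.N_inv_replicate hH hH' eH hO (s + 1) [L'] (by simpa using hL')
        (hdO.trans (le_of_eq (congrArg (fun n : ℕ => (n : WithBot ℕ∞)) (by simp <;> omega)))),
      N_perm (List.perm_append_singleton L' (List.replicate (s + 1) H)),
      HodgeIdxLib.N_inv_head hL hL' eL (hinv _) hO
        (hdO.trans (le_of_eq (congrArg (fun n : ℕ => (n : WithBot ℕ∞)) (by simp <;> omega))))]
    ring
  have n2 : N k (L' :: L' :: List.replicate s H') (Coh.structureModule X) =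
      (-1) ^ (s + 2) * N k (L :: L :: List.replicate s H) (Coh.structureModule X) := by
    rw [N_perm (show (L' :: L' :: List.replicate s H').Perm (List.replicate s H' ++ [L', L']) from
        (List.perm_append_comm (l₁ := [L', L']) (l₂ := List.replicate s H'))),
      BertiniIrrLib.N_inv_replicate hH hH' eH hO s [L', L'] (by simpa using hL')
        (hdO.trans (le_of_eq (congrArg (fun n : ℕ => (n : WithBot ℕ∞)) (by simp <;> omega)))),
      N_perm (show (List.replicate s H ++ [L', L']).Perm (L' :: L' :: List.replicate s H) from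
        List.perm_append_comm),
      HodgeIdxLib.N_inv_head hL hL' eL (List.forall_mem_cons.mpr ⟨hL', hinv _⟩) hO
        (hdO.trans (le_of_eq (congrArg (fun n : ℕ => (n : WithBot ℕ∞)) (by simp <;> omega)))),
      N_perm (List.Perm.swap L' L (List.replicate s H)),
      HodgeIdxLib.N_inv_head hL hL' eL (List.forall_mem_cons.mpr ⟨hL, hinv _⟩) hO
        (hdO.trans (le_of_eq (congrArg (fun n : ℕ => (n : WithBot ℕ∞)) (by simp <;> omega))))]
    ring
  have f1 := N_ofFn (k := k) hX (Matrix.vecCons L' (fun _ : Fin (s + 1) => H')) (Coh.structureModule X)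
  have f2 := N_ofFn (k := k) hX (Matrix.vecCons L' (Matrix.vecCons L' (fun _ : Fin s => H')))
    (Coh.structureModule X)
  have l1 : List.ofFn (Matrix.vecCons L' (fun _ : Fin (s + 1) => H')) = L' :: List.replicate (s + 1) H' := by
    rw [List.ofFn_succ, Matrix.cons_val_zero]; simp only [Matrix.cons_val_succ, List.ofFn_const]
  have l2 : List.ofFn (Matrix.vecCons L' (Matrix.vecCons L' (fun _ : Fin s => H'))) =
      L' :: L' :: List.replicate s H' := by
    rw [List.ofFn_succ, List.ofFn_succ]; simp [Matrix.cons_val_succ, List.ofFn_const]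
  rw [l1, n1] at f1
  rw [l2, n2] at f2
  exact ⟨(mul_left_cancel₀ (pow_ne_zero _ (by norm_num : (-1 : ℤ) ≠ 0)) f1).symm,
    (mul_left_cancel₀ (pow_ne_zero _ (by norm_num : (-1 : ℤ) ≠ 0)) f2).symm⟩

/-- Large twists are ample. -/
theorem exists_ample_twist {M H : X.Modules} (hM : PicF.IsInvertible M) (hH : CohB1.IsAmple H) :
    ∃ n₀ : ℕ, ∀ n, n₀ ≤ n → CohB1.IsAmple (CohB1.tensorMod (CohB1.tensorPow H n) M) := by
  obtain ⟨N₀, hN⟩ := MiscFlat6.exists_gen_twist hH hM
  refine ⟨N₀ + 1, fun n hn => ?_⟩
  obtain ⟨n, rfl⟩ : ∃ n', n = n' + 1 := ⟨n - 1, by omega⟩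
  have hP := AmpleThLib.tensorPow_isInvertible hH.1 n
  have hPL := HilbPolyLib.isInvertible_tensor hP hM
  have hA := MiscFlat6.isAmple_tensor_of_generated hH hPL fun x => by
    obtain ⟨σ, hσ⟩ := hN n (by omega) x
    refine ⟨1, _, one_pos, ⟨AmpleThLib.pS σ 1, rfl⟩, ?_⟩
    rw [AmpleThLib.genSet_pS hPL σ one_pos]
    exact hσ
  exact AmpleDevLib.isAmple_of_iso (HilbPolyLib.isInvertible_tensor hH.1 hPL)
    (HilbPolyLib.isInvertible_tensor (AmpleThLib.tensorPow_isInvertible hH.1 (n + 1)) hM)
    ((assocIso _ _ _).symm ≪≫ congrLeft (swapIso H (CohB1.tensorPow H n)) M) hA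

/-- Ample twisted by numerically trivial is ample. -/
theorem isAmple_of_cl [IsAlgClosed k] {A B N' : X.Modules} (hA : CohB1.IsAmple A) (hN : NT k N')
    (hB : PicF.IsInvertible B) (h : cl B = cl A * cl N') : CohB1.IsAmple B := by
  have h1 := isAmple_nef_add (k := k) hN.inv hN.nef hA (p := 1) (q := 1) one_pos one_pos
  have h2 : cl (CohB1.tensorMod (CohB1.tensorPow N' 1) (CohB1.tensorPow A 1)) = cl B := by
    rw [h, cl_tensor, NumTrivLib.cl_tensorPow, NumTrivLib.cl_tensorPow, pow_one, pow_one, mul_comm]
  obtain ⟨e⟩ := cl_eq_iff.1 h2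
  exact AmpleDevLib.isAmple_of_iso h1.1 hB e h1

/-- An ample module is nef. -/
theorem nef_of_isAmple {A : X.Modules} (hA : CohB1.IsAmple A) : Nef k A := fun _ hξ =>
  (N_ample_pos (d := 1) hA hξ).le

end BddNumLib

end
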