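import Groth.Agent.BddNumLib.Good

/-!
# Cutting a uniformly regular family by a hyperplane
-/

set_option autoImplicit false
set_option linter.style.haveILetI false
set_option maxHeartbeats 1000000
universe u

open CategoryTheory CategoryTheory.Limits AlgebraicGeometry TopologicalSpace Opposite
open HilbPolyLib DevissLib IntMultLib IntFunLib
open KFlatLib (pb)
open NumTrivLib (tw hq exists_seq isCoh_push finite_tw le₁ le₁_zero le₂ twZero isMRegular_congr nonempty_tw_shift)

noncomputable section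

namespace BddNumLib

variable {n : ℕ} {k : Type u} [Field k] {X : Scheme.{u}} [X.Over (Spec (CommRingCat.of k))]
  [IsProper (X ↘ Spec (CommRingCat.of k))] (i : X ⟶ CohB1.ProjSpace n k) [IsClosedImmersion i]

local notation "P" => CohB1.ProjSpace n k
local notation "O'" => Twist.twistProjSpace n k

section Cut

variable {N C : X.Modules} {a : CohB1.tensorMod (pb i (Twist.twistProjSpace n k (-1 : ℤ))) N ⟶ N} {b : N ⟶ C} {w : a ≫ b = 0}
  (hS : (ShortComplex.mk a b w).ShortExact) (hN : Coh.IsCoh N) (hC : Coh.IsCoh C)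

include hS hN hC

/-- The twisted sequences. -/
theorem exists_seq_cut {T : X.Modules} (hT : PicF.IsInvertible T) (d : ℤ) :
    ∃ (f : tw k i (CohB1.tensorMod T N) (d - 1) ⟶ tw k i (CohB1.tensorMod T N) d)
      (g : tw k i (CohB1.tensorMod T N) d ⟶ tw k i (CohB1.tensorMod T C) d) (w : f ≫ g = 0),
      (ShortComplex.mk f g w).ShortExact := by
  have hN' := isCoh_tensor (AmpleDevLib.isInvertible_pb i (PicPnLib.twist_inv n k (-1))) hN
  obtain ⟨f, g, w', he⟩ := exists_seq k i hS hN' hN hC hT d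
  obtain ⟨e⟩ := nonempty_tw_shift i (CohB1.tensorMod T N) d
  let e₁ : tw k i (CohB1.tensorMod T (CohB1.tensorMod (pb i (O' (-1))) N)) d ≅
      tw k i (CohB1.tensorMod T N) (d - 1) :=
    congrLeft ((Coh.push i).mapIso (leftComm _ _ _)) _ ≪≫ e
  have hw : (e₁.inv ≫ f) ≫ g = 0 := by rw [Category.assoc, w', comp_zero]
  refine ⟨e₁.inv ≫ f, g, hw, ShortComplex.shortExact_of_iso (S₁ := ShortComplex.mk f g w')
    (ShortComplex.isoMk e₁ (Iso.refl _) (Iso.refl _) ?_ ?_) he⟩
  · exact (Iso.hom_inv_id_assoc e₁ f).trans (Category.comp_id f).symm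
  · exact (Category.id_comp g).trans (Category.comp_id g).symm

/-- The multiplication on projective space. -/
theorem exists_ι {T : X.Modules} (hT : PicF.IsInvertible T) :
    ∃ ι : CohB1.tensorMod ((Coh.push i).obj (CohB1.tensorMod T N)) (O' (-1)) ⟶
        (Coh.push i).obj (CohB1.tensorMod T N),
      Mono ι ∧ Nonempty (cokernel ι ≅ (Coh.push i).obj (CohB1.tensorMod T C)) := by
  obtain ⟨f, g, w', he⟩ := exists_seq_cut i hS hN hC hT 0
  let e₂ := twZero (n := n) (k := k) ((Coh.push i).obj (CohB1.tensorMod T N))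
  let e₃ := twZero (n := n) (k := k) ((Coh.push i).obj (CohB1.tensorMod T C))
  let f' : CohB1.tensorMod ((Coh.push i).obj (CohB1.tensorMod T N)) (O' (-1)) ⟶
      tw k i (CohB1.tensorMod T N) 0 :=
    (congrRight _ (eqToIso (by rw [zero_sub]))).hom ≫ f
  haveI : Mono f := he.mono_f
  haveI : Mono f' := mono_comp _ _
  refine ⟨f' ≫ e₂.hom, mono_comp _ _, ⟨?_⟩⟩
  exact cokernelCompIsIso f' e₂.hom ≪≫ cokernelEpiComp (f := (congrRight _ (eqToIso (by rw [zero_sub]))).hom) (g := f) ≪≫
    (cokernelIsCokernel f).coconePointUniqueUpToIso he.gIsCokernel ≪≫ e₃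

theorem h0_mono {T : X.Modules} (hT : PicF.IsInvertible T) (d : ℤ) :
    hq k i (CohB1.tensorMod T N) 0 (d - 1) ≤ hq k i (CohB1.tensorMod T N) 0 d := by
  obtain ⟨f, g, w', he⟩ := exists_seq_cut i hS hN hC hT d
  haveI := finite_tw k i (isCoh_tensor hT hN) 0 d
  haveI : Module.Finite k (Coh.HH P (ShortComplex.mk f g w').X₂ 0) := this
  exact le₁_zero k (S := ShortComplex.mk f g w') he

theorem h0_step {T : X.Modules} (hT : PicF.IsInvertible T) (d : ℤ) :
    hq k i (CohB1.tensorMod T N) 0 d ≤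
      hq k i (CohB1.tensorMod T N) 0 (d - 1) + hq k i (CohB1.tensorMod T C) 0 d := by
  obtain ⟨f, g, w', he⟩ := exists_seq_cut i hS hN hC hT d
  haveI := finite_tw k i (isCoh_tensor hT hN) 0 d
  haveI := finite_tw k i (isCoh_tensor hT hN) 0 (d - 1)
  haveI := finite_tw k i (isCoh_tensor hT hC) 0 d
  haveI : Module.Finite k (Coh.HH P (ShortComplex.mk f g w').X₁ 0) := finite_tw k i (isCoh_tensor hT hN) 0 (d - 1)
  haveI : Module.Finite k (Coh.HH P (ShortComplex.mk f g w').X₂ 0) := finite_tw k i (isCoh_tensor hT hN) 0 d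
  haveI : Module.Finite k (Coh.HH P (ShortComplex.mk f g w').X₃ 0) := finite_tw k i (isCoh_tensor hT hC) 0 d
  exact le₂ k (S := ShortComplex.mk f g w') he 0

theorem hq_step {T : X.Modules} (hT : PicF.IsInvertible T) (q : ℕ) (d : ℤ) :
    hq k i (CohB1.tensorMod T N) (q + 1) (d - 1) ≤
      hq k i (CohB1.tensorMod T C) q d + hq k i (CohB1.tensorMod T N) (q + 1) d := by
  obtain ⟨f, g, w', he⟩ := exists_seq_cut i hS hN hC hT d
  haveI := finite_tw k i (isCoh_tensor hT hN) (q + 1) d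
  haveI := finite_tw k i (isCoh_tensor hT hN) (q + 1) (d - 1)
  haveI := finite_tw k i (isCoh_tensor hT hC) q d
  haveI : Module.Finite k (Coh.HH P (ShortComplex.mk f g w').X₁ (q + 1)) :=
    finite_tw k i (isCoh_tensor hT hN) (q + 1) (d - 1)
  haveI : Module.Finite k (Coh.HH P (ShortComplex.mk f g w').X₂ (q + 1)) := finite_tw k i (isCoh_tensor hT hN) (q + 1) d
  haveI : Module.Finite k (Coh.HH P (ShortComplex.mk f g w').X₃ q) := finite_tw k i (isCoh_tensor hT hC) q d
  exact le₁ k (S := ShortComplex.mk f g w') he q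

variable {Fam : X.Modules → Prop} (hFam : ∀ T, Fam T → PicF.IsInvertible T)

include hFam

/-- The cohomological consequences of a good cut. -/
theorem exists_bounds (hG : Good k i Fam C) :
    ∃ m : ℤ, 1 ≤ m ∧ ∀ T : X.Modules, Fam T →
      ∃ ι : CohB1.tensorMod ((Coh.push i).obj (CohB1.tensorMod T N)) (O' (-1)) ⟶
          (Coh.push i).obj (CohB1.tensorMod T N),
        Mono ι ∧ Curv2.IsMRegular k n (cokernel ι) m := by
  obtain ⟨m, hm⟩ := hG.reg
  refine ⟨max m 1, le_max_right _ _, fun T hT => ?_⟩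
  obtain ⟨ι, hι, ⟨e⟩⟩ := exists_ι i hS hN hC (hFam T hT)
  exact ⟨ι, hι, isMRegular_congr e.symm ((hm T hT).trans_le (isCoh_push k i (isCoh_tensor (hFam T hT) hC)).1
    (le_max_left m 1))⟩

/-- Global sections of all twists are bounded. -/
theorem exists_h0_bound (hG : Good k i Fam C) (c₀ : ℤ)
    (h0 : ∀ T : X.Modules, Fam T → hq k i (CohB1.tensorMod T N) 0 c₀ = 0) (d : ℤ) :
    ∃ c : ℕ, ∀ T : X.Modules, Fam T → hq k i (CohB1.tensorMod T N) 0 d ≤ c := by
  have hpos : ∀ j : ℕ, ∃ c : ℕ, ∀ T : X.Modules, Fam T → hq k i (CohB1.tensorMod T N) 0 (c₀ + j) ≤ c := by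
    intro j
    induction j with
    | zero => exact ⟨0, fun T hT => by simpa using (h0 T hT).le⟩
    | succ j ih =>
      obtain ⟨c, hc⟩ := ih
      obtain ⟨c', hc'⟩ := hG.bdd 0 (c₀ + j + 1)
      refine ⟨c + c', fun T hT => ?_⟩
      rw [show c₀ + ((j + 1 : ℕ) : ℤ) = c₀ + j + 1 by push_cast; ring]
      have h := h0_step i hS hN hC (hFam T hT) (c₀ + j + 1)
      rw [add_sub_cancel_right] at h
      exact h.trans (Nat.add_le_add (hc T hT) (hc' T hT))
  rcases le_or_gt c₀ d with h | h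
  · obtain ⟨c, hc⟩ := hpos (d - c₀).toNat
    exact ⟨c, fun T hT => by simpa [Int.toNat_of_nonneg (sub_nonneg.mpr h)] using hc T hT⟩
  · refine ⟨0, fun T hT => ?_⟩
    have : ∀ e : ℕ, hq k i (CohB1.tensorMod T N) 0 (c₀ - e) = 0 := by
      intro e
      induction e with
      | zero => simpa using h0 T hT
      | succ e ih =>
        have := h0_mono i hS hN hC (hFam T hT) (c₀ - (e : ℤ))
        rw [show c₀ - ((e + 1 : ℕ) : ℤ) = c₀ - (e : ℤ) - 1 by push_cast; ring]
        omega
    have h' := this (c₀ - d).toNat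
    rw [Int.toNat_of_nonneg (by omega), sub_sub_cancel] at h'
    exact h'.le

/-- Higher cohomology of all twists is bounded. -/
theorem exists_hq_bound (hG : Good k i Fam C) {M : ℤ}
    (hv : ∀ T : X.Modules, Fam T → ∀ q : ℕ, 1 ≤ q → ∀ d : ℤ, M ≤ d →
      Subsingleton (Coh.HH P (tw k i (CohB1.tensorMod T N) d) q)) (q : ℕ) (d : ℤ) :
    ∃ c : ℕ, ∀ T : X.Modules, Fam T → hq k i (CohB1.tensorMod T N) (q + 1) d ≤ c := by
  suffices ∀ (e : ℕ) (d : ℤ), M ≤ d + e →
      ∃ c : ℕ, ∀ T : X.Modules, Fam T → hq k i (CohB1.tensorMod T N) (q + 1) d ≤ c from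
    this (M - d).toNat d (by omega)
  intro e
  induction e with
  | zero =>
    intro d hd
    refine ⟨0, fun T hT => ?_⟩
    haveI := hv T hT (q + 1) (by omega) d (by simpa using hd)
    exact (Module.finrank_zero_of_subsingleton (R := k) (M := Coh.HH P (tw k i (CohB1.tensorMod T N) d) (q + 1))).le
  | succ e ih =>
    intro d hd
    obtain ⟨c, hc⟩ := ih (d + 1) (by push_cast at hd; omega)
    obtain ⟨c', hc'⟩ := hG.bdd q (d + 1)
    refine ⟨c' + c, fun T hT => ?_⟩
    have := hq_step i hS hN hC (hFam T hT) q (d + 1)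
    rw [add_sub_cancel_right] at this
    exact this.trans (Nat.add_le_add (hc' T hT) (hc T hT))

end Cut

end BddNumLib

end
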