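import Groth.Agent.BddNumLib.Cut
import Groth.Agent.NumTrivLib.BoundedProj
import Groth.Agent.HodgeIdxLib.Reduce

/-!
# Bounded degree and self-intersection give uniform regularity in dimension at most two
-/

set_option autoImplicit false
set_option linter.style.haveILetI false
set_option maxHeartbeats 1000000
universe u

open CategoryTheory CategoryTheory.Limits AlgebraicGeometry TopologicalSpace Opposite
open HilbPolyLib DevissLib IntMultLib IntFunLib
open KFlatLib (pb)
open NumTrivLib (tw hq exists_seq isCoh_push finite_tw le₁ le₁_zero le₂ nonempty_pb_tensor nonempty_HH_tw nonempty_proj)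

noncomputable section

namespace BddNumLib

variable {n : ℕ} {k : Type u} [Field k] {X : Scheme.{u}} [X.Over (Spec (CommRingCat.of k))]
  [IsProper (X ↘ Spec (CommRingCat.of k))] (i : X ⟶ CohB1.ProjSpace n k) [IsClosedImmersion i]

local notation "P" => CohB1.ProjSpace n k
local notation "O'" => Twist.twistProjSpace n k

/-- The restriction of `O(d)`. -/
abbrev twI (d : ℤ) : X.Modules := pb i (O' d)

omit [X.Over (Spec (CommRingCat.of k))] [IsProper (X ↘ Spec (CommRingCat.of k))] [IsClosedImmersion i] in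
theorem twI_inv (d : ℤ) : PicF.IsInvertible (twI i d) :=
  AmpleDevLib.isInvertible_pb i (PicPnLib.twist_inv n k d)

omit [X.Over (Spec (CommRingCat.of k))] [IsProper (X ↘ Spec (CommRingCat.of k))] [IsClosedImmersion i] in
theorem twI_add (a b : ℤ) : Nonempty (CohB1.tensorMod (twI i a) (twI i b) ≅ twI i (a + b)) := by
  obtain ⟨t⟩ := PicPnLib.twist_add n k a b
  obtain ⟨p⟩ := nonempty_pb_tensor i (O' a) (O' b)
  exact ⟨p ≪≫ (Scheme.Modules.pullback i).mapIso t⟩

omit [X.Over (Spec (CommRingCat.of k))] [IsProper (X ↘ Spec (CommRingCat.of k))] [IsClosedImmersion i] in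
theorem twI_zero : Nonempty (twI i 0 ≅ Coh.structureModule X) :=
  ⟨(Scheme.Modules.pullback i).mapIso (PicPnLib.twist_zero n k).some ≪≫ KFlatLib.pullUnitIso i⟩

omit [IsClosedImmersion i] in
/-- Linearity in the twist. -/
theorem N_twI {l : List X.Modules} (hl : ∀ B ∈ l, PicF.IsInvertible B) {F : X.Modules} (hF : Coh.IsCoh F)
    (hd : topologicalKrullDim (CohB1.support F) ≤ (l.length + 1 : ℕ)) (d : ℤ) :
    N k (twI i d :: l) F = d * N k (twI i 1 :: l) F := by
  have hadd : ∀ a b : ℤ, N k (twI i (a + b) :: l) F = N k (twI i a :: l) F + N k (twI i b :: l) F := fun a b => by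
    obtain ⟨e⟩ := twI_add i a b
    rw [← HodgeIdxLib.N_congr_head e, N_tensor hl (twI_inv i a) (twI_inv i b) hF hd]
  have h0 : N k (twI i 0 :: l) F = 0 := by
    obtain ⟨e⟩ := twI_zero i
    rw [HodgeIdxLib.N_congr_head e, N, N_congr l (unitLeft F), sub_self]
  induction d with
  | zero => rw [h0]; ring
  | succ d ih => rw [hadd, ih]; ring
  | pred d ih =>
    have := hadd (-(d : ℤ) - 1) 1
    rw [sub_add_cancel, ih] at this
    linarith

/-- The numerical hypotheses. -/
structure IsFam (Fam : X.Modules → Prop) : Prop where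
  inv : ∀ T, Fam T → PicF.IsInvertible T
  symm : ∀ T T', Fam T → Nonempty (CohB1.tensorMod T T' ≅ Coh.structureModule X) → Fam T'
  deg : ∀ e : ℕ, e ≤ 1 → ∀ ξ : X, topologicalKrullDim (closure ({ξ} : Set X)) = ((e + 1 : ℕ) : WithBot ℕ∞) →
    ∃ c : ℤ, ∀ T, Fam T → N k (T :: List.replicate e (twI i 1)) (Fpt ξ) ≤ c
  sq : ∀ ξ : X, topologicalKrullDim (closure ({ξ} : Set X)) = ((2 : ℕ) : WithBot ℕ∞) →
    ∃ c : ℤ, ∀ T, Fam T → -c ≤ N k [T, T] (Fpt ξ)

omit [IsClosedImmersion i] in
/-- A module of negative degree on an integral scheme has no sections. -/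
theorem subsingleton_of_neg {Z : Scheme.{u}} [Z.Over (Spec (CommRingCat.of k))]
    [IsProper (Z ↘ Spec (CommRingCat.of k))] [IsIntegral Z] {e : ℕ}
    (hZ : topologicalKrullDim Z = ((e + 1 : ℕ) : WithBot ℕ∞)) {H A : Z.Modules} (hH : CohB1.IsAmple H)
    (hA : PicF.IsInvertible A) (hneg : N k (A :: List.replicate e H) (Coh.structureModule Z) < 0) :
    Subsingleton (Coh.HH Z A 0) := by
  haveI := CurvLib.isNoetherian k (X := Z)
  by_contra hs
  obtain ⟨φ, hφ⟩ := CurvLib.exists_hom_ne_zero (L := A) (not_subsingleton_iff_nontrivial.mp hs)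
  obtain ⟨hC, hCd⟩ := HodgeIdxLib.dim_cokernel_le k hZ hA hφ
  let l := List.replicate e H
  have hl : ∀ B ∈ l, PicF.IsInvertible B := fun B h => by rw [List.eq_of_mem_replicate h]; exact hH.1
  have h1 : 0 ≤ N k l (cokernel φ) := N_nonneg hl hC (by rw [List.length_replicate]; exact hCd)
    fun ξ _ hξ => by
      rw [List.length_replicate] at hξ
      exact (N_ample_pos hH hξ).le
  have h2 := N_add (k := k) hl (HodgeIdxLib.cokSeq_shortExact hA hφ) (DevissLib.isCoh_structureModule Z)
    (CurvLib.isCoh_of_isInvertible hA) hC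
  change N k l A = N k l (Coh.structureModule Z) + N k l (cokernel φ) at h2
  rw [HodgeIdxLib.N_unit] at hneg
  simp only [l] at h1 h2
  omega

variable {Fam : X.Modules → Prop} (hFam : IsFam i Fam)

include hFam

/-- Uniform vanishing of sections of negative twists. -/
theorem exists_neg {Z : Scheme.{u}} [IsIntegral Z] (j : Z ⟶ X) [IsClosedImmersion j] {e : ℕ} (he : e ≤ 1)
    (hd : topologicalKrullDim (closure ({j (genericPoint Z)} : Set X)) = ((e + 1 : ℕ) : WithBot ℕ∞)) :
    ∃ c₀ : ℤ, ∀ T, Fam T →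
      Subsingleton (Coh.HH P (tw k i (CohB1.tensorMod T ((Coh.push j).obj (Coh.structureModule Z))) c₀) 0) := by
  letI : Z.Over (Spec (CommRingCat.of k)) := ⟨j ≫ (X ↘ Spec (CommRingCat.of k))⟩
  haveI : IsProper (Z ↘ Spec (CommRingCat.of k)) := inferInstanceAs (IsProper (j ≫ (X ↘ Spec (CommRingCat.of k))))
  haveI := CurvLib.isNoetherian k (X := X)
  haveI := CurvLib.isNoetherian k (X := Z)
  set ξ := j (genericPoint Z)
  obtain ⟨c, hc⟩ := hFam.deg e he ξ hd
  have hF : Coh.IsCoh ((Coh.push j).obj (Coh.structureModule Z)) :=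
    QCohLib.isCoh_push_finite j _ (DevissLib.isCoh_structureModule Z)
  obtain ⟨μ, hμ, hmult⟩ := HodgeIdxLib.exists_mult (k := k) hF (ξ := ξ)
    (HodgeIdxLib.support_push_le j _ isClosed_closure fun y _ =>
      specializes_iff_mem_closure.mp (((genericPoint_spec Z).specializes trivial).map j.continuous))
    (HodgeIdxLib.mem_support_push_unit j (genericPoint Z)) hd
  let H := twI i 1
  have hH : CohB1.IsAmple H := NumTrivLib.isAmple_H i
  have hl : ∀ B ∈ List.replicate e H, PicF.IsInvertible B := fun B hB => by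
    rw [List.eq_of_mem_replicate hB]; exact hH.1
  have hZ : topologicalKrullDim Z = ((e + 1 : ℕ) : WithBot ℕ∞) := by
    rw [← IntFunLib.dim_closure_generic, ← IntFunLib.dim_closure_image j]; exact hd
  have hdF : topologicalKrullDim (CohB1.support ((Coh.push j).obj (Coh.structureModule Z))) ≤
      (((List.replicate e H).length + 1 : ℕ) : WithBot ℕ∞) := by
    rw [List.length_replicate, ← hd]
    exact dim_mono (HodgeIdxLib.support_push_le j _ isClosed_closure fun y _ =>
      specializes_iff_mem_closure.mp (((genericPoint_spec Z).specializes trivial).map j.continuous))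
  have hh : 0 < N k (List.replicate (e + 1) H) ((Coh.push j).obj (Coh.structureModule Z)) := by
    rw [hmult _ (fun B hB => by rw [List.eq_of_mem_replicate hB]; exact hH.1) (by simp)]
    exact mul_pos hμ (N_ample_pos hH hd)
  let c₀ : ℤ := -(max c 0 * μ + 1)
  refine ⟨c₀, fun T hT => ?_⟩
  have hT' := hFam.inv T hT
  let A := CohB1.tensorMod T (twI i c₀)
  have hA : PicF.IsInvertible A := isInvertible_tensor hT' (twI_inv i c₀)
  have hAneg : N k (A :: List.replicate e H) ((Coh.push j).obj (Coh.structureModule Z)) < 0 := by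
    rw [N_tensor hl hT' (twI_inv i c₀) hF hdF, N_twI i hl hF hdF,
      hmult (T :: List.replicate e H) (List.forall_mem_cons.mpr ⟨hT', hl⟩) (by simp)]
    rw [List.replicate_succ] at hh
    change 0 < N k (twI i 1 :: List.replicate e H) _ at hh
    have h1 : μ * N k (T :: List.replicate e H) (Fpt ξ) ≤ max c 0 * μ := by
      rw [mul_comm]
      exact mul_le_mul_of_nonneg_right ((hc T hT).trans (le_max_left c 0)) hμ.le
    have h2 : c₀ * N k (twI i 1 :: List.replicate e H) ((Coh.push j).obj (Coh.structureModule Z)) ≤ c₀ := by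
      have : c₀ ≤ 0 := by have := mul_nonneg (le_max_right c 0) hμ.le; omega
      nlinarith
    omega
  rw [← N_push (g := j) rfl (List.forall_mem_cons.mpr ⟨hA, hl⟩) (DevissLib.isCoh_structureModule Z)
    ((topologicalKrullDim_subspace_le _ _).trans (le_of_eq (by rw [hZ]; simp)))] at hAneg
  simp only [List.map_cons, List.map_replicate] at hAneg
  haveI h0 := subsingleton_of_neg (k := k) hZ (AmpleDevLib.isAmple_pb j hH.1 hH)
    (AmpleDevLib.isInvertible_pb j hA) hAneg
  have hAc := CurvLib.isCoh_of_isInvertible (AmpleDevLib.isInvertible_pb j hA)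
  haveI := hAc.1
  obtain ⟨E⟩ := nonempty_HH_tw i (isCoh_tensor hT' hF) 0 c₀
  obtain ⟨p⟩ := nonempty_proj j (Coh.structureModule Z) hA
  let e₁ : CohB1.tensorMod (twI i c₀) (CohB1.tensorMod T ((Coh.push j).obj (Coh.structureModule Z))) ≅
      (Coh.push j).obj (pb j A) :=
    (assocIso _ _ _).symm ≪≫ congrLeft (swapIso (twI i c₀) T) _ ≪≫ p ≪≫
      (Coh.push j).mapIso (swapIso _ _ ≪≫ unitLeft _)
  obtain ⟨E₂⟩ := QCohLib.nonempty_HH_push j (pb j A) 0
  haveI : Subsingleton (Coh.HH X ((Coh.push j).obj (pb j A)) 0) := E₂.toEquiv.symm.subsingleton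
  haveI := SerreVanLib.subsingleton_HH_of_iso e₁ 0 inferInstance
  exact E.toEquiv.symm.subsingleton

/-- The second difference is bounded below. -/
theorem exists_sq_lower {G : X.Modules} (hG : Coh.IsCoh G)
    (hd : topologicalKrullDim (CohB1.support G) ≤ ((2 : ℕ) : WithBot ℕ∞)) :
    ∃ c : ℤ, ∀ T, Fam T → -c ≤ N k [T, T] G := by
  classical
  haveI := CurvLib.isNoetherian k (X := X)
  rcases (CohB1.support G).eq_empty_or_nonempty with he | hne
  · refine ⟨0, fun T hT => ?_⟩
    rw [neg_zero, N_low (l := [T, T]) (by simp [hFam.inv T hT]) hG (NumTrivLib.dim_lt_of_isZero (isZero_of_support_empty he) 2)]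
  have hfin := IntMultLib.finite_dim_points (QCohLib.isClosed_support G hG.2) hd
  choose c hc using fun ξ : hfin.toFinset =>
    hFam.sq ξ.1 ((Set.Finite.mem_toFinset _).mp ξ.2).2
  refine ⟨∑ ξ ∈ hfin.toFinset.attach, ((len G ξ.1).toNat : ℤ) * c ξ, fun T hT => ?_⟩
  obtain ⟨S, hS, -, hsum⟩ := N_sum (k := k) (l := [T, T]) (by simp [hFam.inv T hT]) hG hne hd
  have hS' : S = hfin.toFinset := Finset.ext fun ξ => by
    rw [hS ξ, Set.Finite.mem_toFinset]; rfl
  rw [hsum, hS', ← Finset.sum_attach _ (fun ξ => (len G ξ).toNat • N k [T, T] (Fpt ξ)), ← Finset.sum_neg_distrib]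
  refine Finset.sum_le_sum fun ξ _ => ?_
  rw [nsmul_eq_mul, ← mul_neg]
  exact mul_le_mul_of_nonneg_left (hc ξ T hT) (Int.natCast_nonneg _)

/-- An upper bound on the Euler characteristics of a symmetric family gives a lower one. -/
theorem exists_chi_lower {G : X.Modules} (hG : Coh.IsCoh G)
    (hd : topologicalKrullDim (CohB1.support G) ≤ ((2 : ℕ) : WithBot ℕ∞)) {b : ℤ}
    (hb : ∀ T, Fam T → Curv2.euler k X (CohB1.tensorMod T G) ≤ b) :
    ∃ c : ℤ, ∀ T, Fam T → c ≤ Curv2.euler k X (CohB1.tensorMod T G) := by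
  obtain ⟨c, hc⟩ := exists_sq_lower i hFam hG hd
  refine ⟨2 * Curv2.euler k X G - c - b, fun T hT => ?_⟩
  obtain ⟨T', ⟨e⟩⟩ := NumTrivLib.exists_inverse (hFam.inv T hT)
  have hT' := hFam.symm T T' hT ⟨e⟩
  have h1 : N k [T', T] G = -N k [T, T] G :=
    HodgeIdxLib.N_inv_head (hFam.inv T hT) (hFam.inv T' hT') e (l := [T]) (by simp [hFam.inv T hT]) hG hd
  have h2 : CohB1.tensorMod T (CohB1.tensorMod T' G) ≅ G :=
    (assocIso _ _ _).symm ≪≫ congrLeft e G ≪≫ unitLeft G
  have h3 : N k [T', T] G = 2 * Curv2.euler k X G - Curv2.euler k X (CohB1.tensorMod T' G) -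
      Curv2.euler k X (CohB1.tensorMod T G) - 0 := by
    simp only [N]
    rw [CurvLib.euler_congr h2]
    ring
  have := hc T hT
  have := hb T' hT'
  omega

variable (hi : i ≫ CohB1.ProjSpace.toSpec n k = X ↘ Spec (CommRingCat.of k))

include hi

/-- Dimension zero. -/
theorem good_of_dim_zero {F : X.Modules} (hF : Coh.IsCoh F)
    (hd : topologicalKrullDim (CohB1.support F) ≤ (0 : ℕ)) : Good k i Fam F := by
  haveI := CurvLib.isNoetherian k (X := X)
  have hv : ∀ T : X.Modules, PicF.IsInvertible T → ∀ (q : ℕ), 1 ≤ q → ∀ d : ℤ,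
      Subsingleton (Coh.HH P (tw k i (CohB1.tensorMod T F) d) q) := by
    intro T hT q hq d
    obtain ⟨E⟩ := nonempty_HH_tw i (isCoh_tensor hT hF) q d
    haveI := CurvLib.subsingleton_HH_of_support_dim (CohB1.tensorMod (pb i (O' d)) (CohB1.tensorMod T F))
      (isCoh_tensor (twI_inv i d) (isCoh_tensor hT hF)).2 (d := 0)
      (by rw [support_tensor (twI_inv i d), support_tensor hT]; exact hd) q (by omega)
    exact E.toEquiv.symm.subsingleton
  refine ⟨hF, ⟨0, fun T hT a ha _ => hv T (hFam.inv T hT) a ha _⟩, fun q d => ?_⟩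
  rcases Nat.eq_zero_or_pos q with rfl | hq
  · refine ⟨(Curv2.euler k X (CohB1.tensorMod (pb i (O' d)) F)).toNat, fun T hT => ?_⟩
    have hT' := hFam.inv T hT
    have h := NumTrivLib.euler_eq_two i hi (isCoh_tensor hT' hF) d fun q hq => hv T hT' q (by omega) d
    haveI := hv T hT' 1 le_rfl d
    rw [show NumTrivLib.hq k i (CohB1.tensorMod T F) 1 d = 0 from Module.finrank_zero_of_subsingleton,
      CurvLib.euler_congr (leftComm (pb i (O' d)) T F)] at h
    have h0 := N_low (k := k) (l := [T]) (by simp [hT']) (isCoh_tensor (twI_inv i d) hF)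
      (by rw [support_tensor (twI_inv i d)]; exact hd.trans_lt (by simp))
    simp only [N, twI] at h0
    omega
  · refine ⟨0, fun T hT => ?_⟩
    haveI := hv T (hFam.inv T hT) q hq d
    exact (Module.finrank_zero_of_subsingleton (R := k) (M := Coh.HH P (tw k i (CohB1.tensorMod T F) d) q)).le

/-- The step. -/
theorem step {Z : Scheme.{u}} [IsIntegral Z] (j : Z ⟶ X) [IsClosedImmersion j] {N' : X.Modules}
    (u : N' ⟶ (Coh.push j).obj (Coh.structureModule Z)) [Mono u] (hN : Coh.IsCoh N') {e : ℕ} (he : e ≤ 1)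
    (hd : topologicalKrullDim (closure ({j (genericPoint Z)} : Set X)) = ((e + 1 : ℕ) : WithBot ℕ∞))
    (hG : ∀ M : X.Modules, Coh.IsCoh M → topologicalKrullDim (CohB1.support M) < ((e + 1 : ℕ) : WithBot ℕ∞) →
      Good k i Fam M) : Good k i Fam N' := by
  haveI := CurvLib.isNoetherian k (X := X)
  obtain ⟨a, ha, hC, hCd⟩ := NumTrivLib.exists_cut i j u hN hd
  haveI := ha
  have hS : (ShortComplex.mk a (cokernel.π a) (cokernel.condition a)).ShortExact :=
    ShortComplex.ShortExact.mk (ShortComplex.exact_cokernel a)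
  have hgC := hG _ hC hCd
  obtain ⟨m, hm1, hm⟩ := exists_bounds i hS hN hC hFam.inv hgC
  have hW : Coh.IsCoh ((Coh.push j).obj (Coh.structureModule Z)) :=
    QCohLib.isCoh_push_finite j _ (DevissLib.isCoh_structureModule Z)
  obtain ⟨c₀, hc₀⟩ := exists_neg i hFam j he hd
  have h0 : ∀ T : X.Modules, Fam T → hq k i (CohB1.tensorMod T N') 0 c₀ = 0 := fun T hT => by
    have hT' := hFam.inv T hT
    haveI := hW.1
    have hu : (ShortComplex.mk u (cokernel.π u) (cokernel.condition u)).ShortExact :=
      ShortComplex.ShortExact.mk (ShortComplex.exact_cokernel u)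
    obtain ⟨f, g, w, he⟩ := exists_seq k i hu hN hW (QCohLib.isCoh_cokernel u hN.1 hW) hT' c₀
    haveI := finite_tw k i (isCoh_tensor hT' hW) 0 c₀
    haveI := hc₀ T hT
    haveI : Module.Finite k (Coh.HH P (ShortComplex.mk f g w).X₂ 0) := finite_tw k i (isCoh_tensor hT' hW) 0 c₀
    have h := le₁_zero k (S := ShortComplex.mk f g w) he
    simp only [Module.finrank_zero_of_subsingleton, Nat.le_zero] at h
    exact h
  have hsupp : topologicalKrullDim (CohB1.support N') ≤ ((e + 1 : ℕ) : WithBot ℕ∞) := by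
    refine (dim_mono ((support_mono u).trans ((DevissLib.support_push_subset j _).trans ?_))).trans hd.le
    rintro _ ⟨z, rfl⟩
    exact specializes_iff_mem_closure.mp
      (((genericPoint_spec Z).specializes trivial).map j.continuous)
  -- the cohomology in degrees at least two
  have hv2 : ∀ T : X.Modules, Fam T → ∀ q : ℕ, 2 ≤ q → ∀ d : ℤ, m - q ≤ d →
      Subsingleton (Coh.HH P (tw k i (CohB1.tensorMod T N') d) q) := fun T hT q hq d hdq => by
    obtain ⟨ι, hι, hr⟩ := hm T hT
    haveI := hι
    exact PnCohLib.vanishing_two k _ ι (isCoh_push k i (isCoh_tensor (hFam.inv T hT) hN)) m hr q hq d hdq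
  obtain ⟨c, hc⟩ := exists_h0_bound i hS hN hC hFam.inv hgC c₀ h0 (m - 1)
  let A := twI i (m - 1)
  have hA : PicF.IsInvertible A := twI_inv i _
  have hχ : ∀ T : X.Modules, Fam T → Curv2.euler k X (CohB1.tensorMod T (CohB1.tensorMod A N')) =
      (hq k i (CohB1.tensorMod T N') 0 (m - 1) : ℤ) - (hq k i (CohB1.tensorMod T N') 1 (m - 1) : ℤ) := fun T hT => by
    rw [CurvLib.euler_congr (leftComm T A N')]
    exact NumTrivLib.euler_eq_two i hi (isCoh_tensor (hFam.inv T hT) hN) (m - 1) fun q hq => hv2 T hT q hq _ (by omega)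
  obtain ⟨lo, hlo⟩ := exists_chi_lower i hFam (isCoh_tensor hA hN)
    (by rw [support_tensor hA]; exact hsupp.trans (by exact_mod_cast (by omega : e + 1 ≤ 2))) (b := c) fun T hT => by
      rw [hχ T hT]
      have := hc T hT
      omega
  let B := ((c : ℤ) - lo).toNat
  have hv1 : ∀ T : X.Modules, Fam T →
      Subsingleton (Coh.HH P (tw k i (CohB1.tensorMod T N') (m - 1 + B)) 1) := fun T hT => by
    obtain ⟨ι, hι, hr⟩ := hm T hT
    haveI := hι
    have hb := PnCohLib.h1_bound k _ ι (isCoh_push k i (isCoh_tensor (hFam.inv T hT) hN)) m hr B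
    haveI := finite_tw k i (isCoh_tensor (hFam.inv T hT) hN) 1 (m - 1 + B)
    rw [← Module.finrank_zero_iff (R := k)]
    have h1 := hχ T hT
    have h2 := hlo T hT
    have h3 := hc T hT
    unfold PnCohLib.h1 at hb
    change hq k i (CohB1.tensorMod T N') 1 (m - 1 + B) ≤ hq k i (CohB1.tensorMod T N') 1 (m - 1) - B at hb
    change hq k i (CohB1.tensorMod T N') 1 (m - 1 + B) = 0
    omega
  have hreg : ∀ T : X.Modules, Fam T →
      Curv2.IsMRegular k n ((Coh.push i).obj (CohB1.tensorMod T N')) (m + B) := by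
    intro T hT q hq _
    rcases Nat.lt_or_ge q 2 with h | h
    · obtain rfl : q = 1 := by omega
      have := hv1 T hT
      rwa [show m + (B : ℤ) - ((1 : ℕ) : ℤ) = m - 1 + B by push_cast; ring]
    · exact hv2 T hT q h _ (by omega)
  refine ⟨hN, ⟨m + B, hreg⟩, fun q d => ?_⟩
  rcases q with _ | q
  · exact exists_h0_bound i hS hN hC hFam.inv hgC c₀ h0 d
  · refine exists_hq_bound i hS hN hC hFam.inv hgC (M := m + B) (fun T hT q hq d hd' => ?_) q d
    exact PnCohLib.vanishing_ge k _ (isCoh_push k i (isCoh_tensor (hFam.inv T hT) hN)).1 (m + B) (hreg T hT) q hq d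
      (by omega)

/-- **Uniform regularity in dimension at most two.** -/
theorem good_all : ∀ e : ℕ, e ≤ 3 → ∀ M : X.Modules, Coh.IsCoh M →
    topologicalKrullDim (CohB1.support M) < (e : ℕ) → Good k i Fam M := by
  haveI := CurvLib.isNoetherian k (X := X)
  intro e
  induction e with
  | zero =>
    intro _ M hM h
    refine Good.of_isZero (isZero_of_support_empty (Set.not_nonempty_iff_eq_empty.mp fun hne => ?_))
    have h2 := (nonneg_dim hne).trans_lt h
    rw [Nat.cast_zero] at h2
    exact lt_irrefl _ h2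
  | succ e ih =>
    intro he M hM hdlt
    have hG := ih (by omega)
    have hd := dim_le_iff.mp hdlt
    obtain ⟨m, F, φ, hF0, ⟨eF⟩, hFc, hF⟩ := exists_filtration hM
    have hsub : ∀ d : ℕ, ∀ j ≤ m, m ≤ j + d → CohB1.support (F j) ⊆ CohB1.support M := by
      intro d
      induction d with
      | zero => intro j hj hj'; obtain rfl : j = m := by omega
                exact (support_iso eF).le
      | succ d ihd =>
        intro j hj hj'
        rcases hj.eq_or_lt with rfl | hlt
        · exact (support_iso eF).le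
        · haveI := (hF j hlt).1
          exact (support_mono (φ j)).trans (ihd (j + 1) (by omega) (by omega))
    suffices ∀ j ≤ m, Good k i Fam (F j) from (this m le_rfl).iso eF
    intro j
    induction j with
    | zero => exact fun _ => Good.of_isZero hF0
    | succ j ihj =>
      intro hj
      obtain ⟨hmono, Z, iZ, hiZ, hZ, I, ι, hι, hIq, -, ⟨eC⟩⟩ := hF j (by omega)
      haveI := hmono
      haveI := hiZ
      haveI := hZ
      haveI := hι
      let S : ShortComplex X.Modules := ShortComplex.mk (φ j) (cokernel.π (φ j)) (cokernel.condition _)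
      have hS : S.ShortExact := ShortComplex.ShortExact.mk (ShortComplex.exact_cokernel _)
      have hc3 : Coh.IsCoh (cokernel (φ j)) := QCohLib.isCoh_cokernel _ (hFc j (by omega)).1 (hFc (j + 1) hj)
      refine Good.ext hFam.inv (S := S) hS (hFc (j + 1) hj) (ihj (by omega)) ?_
      have hN : Coh.IsCoh ((Coh.push iZ).obj I) := QCohLib.isCoh_of_iso eC hc3
      suffices keyN : Good k i Fam ((Coh.push iZ).obj I) from keyN.iso eC.symm
      have hdN : topologicalKrullDim (CohB1.support ((Coh.push iZ).obj I)) ≤ (e : ℕ) := by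
        rw [← support_iso eC]
        exact (dim_mono ((support_epi (cokernel.π (φ j))).trans (hsub m (j + 1) hj (by omega)))).trans hd
      rcases hdN.lt_or_eq with hlt | heq
      · exact hG _ hN hlt
      rcases e with _ | e
      · exact good_of_dim_zero i hFam hi hN heq.le
      haveI : Mono ((Coh.push iZ).map ι) := inferInstance
      have hξ : iZ (genericPoint Z) ∈ CohB1.support ((Coh.push iZ).obj I) := by
        by_contra h
        exact (NumTrivLib.dim_lt_of_isZero (DevissLib.isZero_of_mono_push iZ ((Coh.push iZ).map ι) h) (e + 1)).ne heq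
      have hdξ : topologicalKrullDim (closure ({iZ (genericPoint Z)} : Set X)) = ((e + 1 : ℕ) : WithBot ℕ∞) := by
        refine le_antisymm ((dim_mono ((QCohLib.isClosed_support _ hN.2).closure_subset_iff.mpr
          (Set.singleton_subset_iff.mpr hξ))).trans heq.le) (heq.ge.trans (dim_mono ?_))
        refine (DevissLib.support_push_subset iZ _).trans ?_
        rintro _ ⟨z, rfl⟩
        exact specializes_iff_mem_closure.mp
          (((genericPoint_spec Z).specializes trivial).map iZ.continuous)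
      exact step i hFam hi iZ ((Coh.push iZ).map ι) hN (by omega) hdξ hG

end BddNumLib

end
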