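import Groth.Agent.NumTrivLib.Step

/-!
# Uniformly regular families of invertible twists
-/

set_option autoImplicit false
set_option linter.style.haveILetI false
set_option maxHeartbeats 1000000
universe u

open CategoryTheory CategoryTheory.Limits AlgebraicGeometry TopologicalSpace Opposite
open HilbPolyLib DevissLib IntMultLib IntFunLib
open KFlatLib (pb)
open NumTrivLib (tw hq exists_seq isCoh_push finite_tw le₁ le₁_zero le₂ isZero_tensor_left isZero_tensor_right isZero_push)

noncomputable section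

namespace BddNumLib

variable {n : ℕ} (k : Type u) [Field k] {X : Scheme.{u}} [X.Over (Spec (CommRingCat.of k))]
  [IsProper (X ↘ Spec (CommRingCat.of k))] (i : X ⟶ CohB1.ProjSpace n k) [IsClosedImmersion i]

local notation "P" => CohB1.ProjSpace n k
local notation "O'" => Twist.twistProjSpace n k

/-- Uniform regularity of the twists by numerically trivial modules. -/
def Reg (Fam : X.Modules → Prop) (F : X.Modules) : Prop :=
  ∃ m : ℤ, ∀ T : X.Modules, Fam T → Curv2.IsMRegular k n ((Coh.push i).obj (CohB1.tensorMod T F)) m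

/-- Uniform bounds for the cohomology of the twists by numerically trivial modules. -/
def Bdd (Fam : X.Modules → Prop) (F : X.Modules) : Prop :=
  ∀ (q : ℕ) (j : ℤ), ∃ b : ℕ, ∀ T : X.Modules, Fam T → hq k i (CohB1.tensorMod T F) q j ≤ b

/-- Both. -/
structure Good (Fam : X.Modules → Prop) (F : X.Modules) : Prop where
  coh : Coh.IsCoh F
  reg : Reg k i Fam F
  bdd : Bdd k i Fam F

variable {k i} {Fam : X.Modules → Prop} (hFam : ∀ T, Fam T → PicF.IsInvertible T)

include hFam in

theorem Good.van {F : X.Modules} (h : Good k i Fam F) :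
    ∃ m : ℤ, ∀ T, Fam T → ∀ q : ℕ, 1 ≤ q → ∀ j : ℤ, m - q ≤ j →
      Subsingleton (Coh.HH P (tw k i (CohB1.tensorMod T F) j) q) := by
  obtain ⟨m, hm⟩ := h.reg
  refine ⟨m, fun T hT q hq j hj => ?_⟩
  exact PnCohLib.vanishing_ge k _ (isCoh_push k i (isCoh_tensor (hFam T hT) h.coh)).1 m (hm T hT) q hq j hj

theorem Good.iso {F G : X.Modules} (h : Good k i Fam F) (e : F ≅ G) : Good k i Fam G := by
  refine ⟨QCohLib.isCoh_of_iso e h.coh, ?_, fun q j => ?_⟩
  · obtain ⟨m, hm⟩ := h.reg
    exact ⟨m, fun T hT a ha han => SerreVanLib.subsingleton_HH_of_iso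
      (congrLeft ((Coh.push i).mapIso (congrRight T e.symm)) _) a (hm T hT a ha han)⟩
  · obtain ⟨b, hb⟩ := h.bdd q j
    refine ⟨b, fun T hT => ?_⟩
    rw [hq, (CurvLib.hIso (k := k) (congrLeft ((Coh.push i).mapIso (congrRight T e.symm)) (O' j)) q).finrank_eq]
    exact hb T hT

theorem Good.of_isZero {F : X.Modules} (h : IsZero F) : Good k i Fam F := by
  have hz : ∀ (T : X.Modules) (j : ℤ), IsZero (tw k i (CohB1.tensorMod T F) j) := fun T j =>
    isZero_tensor_left k _ _ (isZero_push k i _ (isZero_tensor_right _ _ h))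
  refine ⟨DevissLib.isCoh_of_isZero h, ⟨0, fun T _ a _ _ => PnCohLib.subsingleton_HH_of_zero (hz T _) a⟩,
    fun q j => ⟨0, fun T _ => ?_⟩⟩
  haveI := PnCohLib.subsingleton_HH_of_zero (hz T j) q
  exact (Module.finrank_zero_of_subsingleton (R := k) (M := Coh.HH P (tw k i (CohB1.tensorMod T F) j) q)).le

include hFam in
/-- Extensions. -/
theorem Good.ext {S : ShortComplex X.Modules} (hS : S.ShortExact) (h₂ : Coh.IsCoh S.X₂) (h1 : Good k i Fam S.X₁)
    (h3 : Good k i Fam S.X₃) : Good k i Fam S.X₂ := by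
  obtain ⟨m₁, v₁⟩ := (h1.van hFam)
  obtain ⟨m₃, v₃⟩ := (h3.van hFam)
  refine ⟨h₂, ⟨max m₁ m₃, fun T hT a ha _ => ?_⟩, fun q j => ?_⟩
  · obtain ⟨f, g, w, he⟩ := exists_seq k i hS h1.coh h₂ h3.coh (hFam T hT) (max m₁ m₃ - a)
    haveI := v₁ T hT a ha (max m₁ m₃ - a) (by have := le_max_left m₁ m₃; omega)
    haveI := v₃ T hT a ha (max m₁ m₃ - a) (by have := le_max_right m₁ m₃; omega)
    haveI : Module.Finite k (Coh.HH P (tw k i (CohB1.tensorMod T S.X₁) (max m₁ m₃ - a)) a) :=
      finite_tw k i (isCoh_tensor (hFam T hT) h1.coh) _ _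
    haveI := finite_tw k i (isCoh_tensor (hFam T hT) h₂) a (max m₁ m₃ - a)
    haveI : Module.Finite k (Coh.HH P (tw k i (CohB1.tensorMod T S.X₃) (max m₁ m₃ - a)) a) :=
      finite_tw k i (isCoh_tensor (hFam T hT) h3.coh) _ _
    have h := le₂ (k := k) he a
    simp only [Module.finrank_zero_of_subsingleton, Nat.le_zero, add_zero] at h
    exact (Module.finrank_zero_iff (R := k)).mp h
  · obtain ⟨b₁, hb₁⟩ := h1.bdd q j
    obtain ⟨b₃, hb₃⟩ := h3.bdd q j
    refine ⟨b₁ + b₃, fun T hT => ?_⟩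
    obtain ⟨f, g, w, he⟩ := exists_seq k i hS h1.coh h₂ h3.coh (hFam T hT) j
    haveI := finite_tw k i (isCoh_tensor (hFam T hT) h1.coh) q j
    haveI := finite_tw k i (isCoh_tensor (hFam T hT) h₂) q j
    haveI := finite_tw k i (isCoh_tensor (hFam T hT) h3.coh) q j
    exact (le₂ (k := k) he q).trans (Nat.add_le_add (hb₁ T hT) (hb₃ T hT))

end BddNumLib

end
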