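import Groth.Agent.BddNumLib.Numbers
import Groth.Agent.BddFamLib.Main
import Groth.Agent.BddFamLib.Classes
import Groth.Agent.BertiniIrrLib.Index
import Groth.Agent.AVAmpleLib.CurveThrough

/-!
# Boundedness from degree and self-intersection
-/

set_option autoImplicit false
set_option linter.style.haveILetI false
set_option maxHeartbeats 1000000
universe u

open CategoryTheory CategoryTheory.Limits AlgebraicGeometry TopologicalSpace Opposite
open HilbPolyLib DevissLib IntMultLib IntFunLib
open KFlatLib (pb)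
open NumTrivLib (NT)
open CubeConsLib (cl cl_tensor cl_eq_iff cl_eq_one_iff)

noncomputable section

namespace BddNumLib

variable {k : Type u} [Field k]

theorem cl_pb_tensor {Z Y : Scheme.{u}} (g : Z ⟶ Y) (A B : Y.Modules) :
    cl (pb g (CohB1.tensorMod A B)) = cl (pb g A) * cl (pb g B) := by
  rw [← cl_tensor, cl_eq_iff]
  obtain ⟨e⟩ := NumTrivLib.nonempty_pb_tensor g A B
  exact ⟨e.symm⟩

/-- Algebraically trivial invertible modules are numerically trivial. -/
theorem NT_of_algEquiv [IsAlgClosed k] {X : Scheme.{u}} [X.Over (Spec (CommRingCat.of k))]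
    [IsProper (X ↘ Spec (CommRingCat.of k))] {N : X.Modules} (hN : PicF.IsInvertible N)
    (h : Pic13.IsAlgEquivZero k X N) : NT k N := by
  obtain ⟨T', q', h1, h2, h3, A, hA, u, v, hu, hv, ⟨iu⟩, ⟨iv⟩⟩ := h
  exact NT.of_isNumEquivZero (k := k) hN (Groth.Agent.S4278.result k X N hN
    ⟨1, Nat.one_pos, T', q', h1, h2, h3, A, hA, u, v, hu, hv, ⟨iu ≪≫ (unitLeft N).symm⟩, ⟨iv⟩⟩)

/-- A bounded family of invertible modules has finitely many numerical classes. -/
theorem exists_numClasses [IsAlgClosed k] {X : Scheme.{u}} [X.Over (Spec (CommRingCat.of k))]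
    [IsProper (X ↘ Spec (CommRingCat.of k))] {P : X.Modules → Prop} (hP : Pic13.IsBounded k X P) :
    ∃ (m : ℕ) (M : Fin m → X.Modules), ∀ L, PicF.IsInvertible L → P L →
      ∃ j, ∃ N, NT k N ∧ cl L = cl (M j) * cl N := by
  obtain ⟨s, hs⟩ := BddFamLib.exists_classes k X hP
  refine ⟨s.card, fun j => (s.equivFin.symm j).1, fun L hL hPL => ?_⟩
  obtain ⟨M, hM, N, hN, hN0, ⟨e⟩⟩ := hs L hL hPL
  refine ⟨s.equivFin ⟨M, hM⟩, N, NT_of_algEquiv hN hN0, ?_⟩
  simp only [Equiv.symm_apply_apply]
  rw [← cl_tensor, cl_eq_iff]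
  exact ⟨e⟩

/-- A curve on an integral scheme of positive dimension. -/
theorem exists_curve {X : Scheme.{u}} [X.Over (Spec (CommRingCat.of k))]
    [IsProper (X ↘ Spec (CommRingCat.of k))] [IsIntegral X] {d : ℕ} (hX : topologicalKrullDim X = ((d + 1 : ℕ) : WithBot ℕ∞)) :
    ∃ c : X, topologicalKrullDim (closure ({c} : Set X)) = ((1 : ℕ) : WithBot ℕ∞) := by
  haveI := CurvLib.isNoetherian k (X := X)
  obtain ⟨e, -, he⟩ := IsClosed.exists_closed_singleton (isClosed_univ (X := X)) ⟨genericPoint X, trivial⟩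
  have hne : ({e} : Set X) ≠ Set.univ := fun h => by
    have hg : genericPoint X ∈ ({e} : Set X) := by rw [h]; trivial
    have h0 : topologicalKrullDim (closure ({genericPoint X} : Set X)) ≤ 0 := by
      rw [Set.mem_singleton_iff.mp hg, he.closure_eq]
      exact topologicalKrullDim_zero_of_discreteTopology _
    rw [dim_closure_generic, hX] at h0
    have : d + 1 ≤ 0 := by exact_mod_cast h0
    omega
  obtain ⟨y, -, -, hy⟩ := AVAmpleLib.exists_curve_not_mem (X ↘ Spec (CommRingCat.of k)) e he
    (IsClosed.closure_eq he ▸ isClosed_closure : IsClosed ({e} : Set X)) rfl hne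
  exact ⟨y, by rw [hy, Nat.cast_one]⟩

/-- **Boundedness from degree and self-intersection.** -/
theorem isBounded_num [IsAlgClosed k] : ∀ (s : ℕ) (X : Scheme.{u}) [X.Over (Spec (CommRingCat.of k))]
    [IsProper (X ↘ Spec (CommRingCat.of k))] [IsIntegral X],
    topologicalKrullDim X = ((s + 2 : ℕ) : WithBot ℕ∞) → ∀ (H : X.Modules), CohB1.IsAmple H → ∀ B : ℤ,
    Pic13.IsBounded k X (fun T : X.Modules => PicF.IsInvertible T ∧
      |N k (T :: List.replicate (s + 1) H) (Coh.structureModule X)| ≤ B ∧
      -B ≤ N k (T :: T :: List.replicate s H) (Coh.structureModule X))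
  | 0, X, _, _, _, hX, H, hH, B => isBounded_surface hX hH B
  | s + 1, X, _, _, _, hX, H, hH, B => by
    classical
    haveI := CurvLib.isNoetherian k (X := X)
    obtain ⟨c, hc⟩ := exists_curve (k := k) (d := s + 2) hX
    obtain ⟨η, μ, m, hμ, hm, -, hηd, hnum⟩ :=
      BertiniIrrLib.exists_section_numbers (k := k) (r := s + 2) hX (by omega) hH hc
    haveI := isIntegral_ptIdeal η
    let W := (ptIdeal η).subscheme
    let ι : W ⟶ X := (ptIdeal η).subschemeι
    letI : W.Over (Spec (CommRingCat.of k)) := ⟨ι ≫ (X ↘ Spec (CommRingCat.of k))⟩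
    haveI : IsProper (W ↘ Spec (CommRingCat.of k)) :=
      inferInstanceAs (IsProper (ι ≫ (X ↘ Spec (CommRingCat.of k))))
    haveI := CurvLib.isNoetherian k (X := W)
    have hWd : topologicalKrullDim W = ((s + 2 : ℕ) : WithBot ℕ∞) := by
      rw [(ι.isEmbedding.toHomeomorph.trans
        (Homeomorph.setCongr (range_ptIdeal η))).isHomeomorph.topologicalKrullDim_eq]
      exact hηd
    have hrep : ∀ j : ℕ, ∀ A ∈ List.replicate j H, PicF.IsInvertible A := fun j A hA => by
      rw [List.eq_of_mem_replicate hA]; exact hH.1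
    -- the numbers on the section
    have hW1 : ∀ T : X.Modules, PicF.IsInvertible T →
        μ * N k (pb ι T :: List.replicate (s + 1) (pb ι H)) (Coh.structureModule W) =
          m * N k (T :: List.replicate (s + 1 + 1) H) (Coh.structureModule X) := fun T hT => by
      have hl : ∀ A ∈ T :: List.replicate (s + 1) H, PicF.IsInvertible A := List.forall_mem_cons.mpr ⟨hT, hrep _⟩
      have h := hnum _ hl (by simp)
      rw [BertiniIrrLib.N_ptIdeal (k := k) η rfl hl (by rw [hηd]; simp only [List.length_cons, List.length_replicate]; exact le_of_eq rfl)] at h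
      simp only [List.map_cons, List.map_replicate] at h
      rw [h, N_perm (List.Perm.swap T H _)]
      rfl
    have hW2 : ∀ T : X.Modules, PicF.IsInvertible T →
        μ * N k (pb ι T :: pb ι T :: List.replicate s (pb ι H)) (Coh.structureModule W) =
          m * N k (T :: T :: List.replicate (s + 1) H) (Coh.structureModule X) := fun T hT => by
      have hl : ∀ A ∈ T :: T :: List.replicate s H, PicF.IsInvertible A :=
        List.forall_mem_cons.mpr ⟨hT, List.forall_mem_cons.mpr ⟨hT, hrep _⟩⟩
      have h := hnum _ hl (by simp)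
      rw [BertiniIrrLib.N_ptIdeal (k := k) η rfl hl (by rw [hηd]; simp only [List.length_cons, List.length_replicate]; exact le_of_eq rfl)] at h
      simp only [List.map_cons, List.map_replicate] at h
      rw [h, N_perm ((List.Perm.swap T H _).trans ((List.Perm.swap T H _).cons T))]
      rfl
    obtain ⟨r, M, hM⟩ := exists_numClasses (k := k)
      (isBounded_num s W hWd (pb ι H) (AmpleDevLib.isAmple_pb ι hH.1 hH) (m * B))
    let P : X.Modules → Prop := fun T => PicF.IsInvertible T ∧
      |N k (T :: List.replicate (s + 1 + 1) H) (Coh.structureModule X)| ≤ B ∧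
      -B ≤ N k (T :: T :: List.replicate (s + 1) H) (Coh.structureModule X)
    let Q : Fin r → X.Modules → Prop := fun j T => P T ∧ ∃ N, NT k N ∧ cl (pb ι T) = cl (M j) * cl N
    refine NumTrivLib.isBounded_mono (BddFamLib.isBounded_fintype k X (ι := ULift.{u} (Fin r))
      (fun j => Q j.down) fun j => ?_) fun T hT => ?_
    swap
    · obtain ⟨hTi, h1, h2⟩ := hT
      obtain ⟨j, N', hN', he⟩ := hM (pb ι T) (AmpleDevLib.isInvertible_pb ι hTi)
        ⟨AmpleDevLib.isInvertible_pb ι hTi, by
          have h := hW1 T hTi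
          have hle : |IntFunLib.N k (pb ι T :: List.replicate (s + 1) (pb ι H)) (Coh.structureModule W)| ≤
              |μ * IntFunLib.N k (pb ι T :: List.replicate (s + 1) (pb ι H)) (Coh.structureModule W)| := by
            rw [abs_mul, abs_of_pos hμ]
            exact le_mul_of_one_le_left (abs_nonneg _) hμ
          rw [h, abs_mul, abs_of_pos hm] at hle
          exact hle.trans (mul_le_mul_of_nonneg_left h1 hm.le), by
          have h := hW2 T hTi
          have hB : 0 ≤ B := (abs_nonneg _).trans h1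
          by_contra hlt
          push Not at hlt
          nlinarith [mul_le_mul_of_nonneg_left h2 hm.le, mul_nonneg hm.le hB]⟩
      exact ⟨⟨j⟩, ⟨hTi, h1, h2⟩, N', hN', he⟩
    by_cases hne : ∃ T, Q j.down T
    swap
    · exact NumTrivLib.isBounded_mono (BddFamLib.isBounded_empty k X) fun T h => hne ⟨T, h⟩
    obtain ⟨T₀, ⟨hT₀, -, -⟩, N₀, hN₀, he₀⟩ := hne
    obtain ⟨T₀', ⟨e₀⟩⟩ := NumTrivLib.exists_inverse hT₀
    obtain ⟨N₀', ⟨en⟩⟩ := NumTrivLib.exists_inverse hN₀.inv
    have hT₀' := IntMultLib.isInvertible_of_inverse hT₀ e₀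
    refine NumTrivLib.isBounded_mono (BddFamLib.isBounded_tensor k (BddFamLib.isBounded_NT k X)
      (CurvLib.isCoh_of_isInvertible hT₀)) fun T hT => ?_
    obtain ⟨⟨hTi, -, -⟩, N', hN', he⟩ := hT
    let U := CohB1.tensorMod T T₀'
    have hU : PicF.IsInvertible U := isInvertible_tensor hTi hT₀'
    refine ⟨U, ?_, ?_⟩
    swap
    · rw [← cl_eq_iff, cl_tensor, cl_tensor, mul_assoc, mul_comm (cl T₀') (cl T₀), ← cl_tensor T₀,
        cl_eq_one_iff.2 ⟨e₀⟩, mul_one]
    have hNU : NT k (pb ι U) := by
      have h1 : cl (pb ι T₀) * cl (pb ι T₀') = 1 := by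
        rw [← cl_pb_tensor, cl_eq_one_iff]
        exact ⟨(Scheme.Modules.pullback ι).mapIso e₀ ≪≫ KFlatLib.pullUnitIso ι⟩
      have h2 : cl N₀ * cl N₀' = 1 := by rw [← cl_tensor, cl_eq_one_iff]; exact ⟨en⟩
      have h3 : cl (M j.down) * cl (pb ι T₀') = cl N₀' := by
        calc cl (M j.down) * cl (pb ι T₀')
            = cl (M j.down) * cl (pb ι T₀') * (cl N₀ * cl N₀') := by rw [h2, mul_one]
          _ = cl (M j.down) * cl N₀ * cl (pb ι T₀') * cl N₀' := by ac_rfl
          _ = cl N₀' := by rw [← he₀, h1, one_mul]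
      have h4 : cl (pb ι U) = cl (CohB1.tensorMod N' N₀') := by
        rw [cl_pb_tensor, he, cl_tensor, ← h3]
        ac_rfl
      obtain ⟨e⟩ := cl_eq_iff.1 h4
      exact (hN'.tensor (hN₀.inverse en)).iso e.symm
    have hpbH : ∀ j : ℕ, ∀ A ∈ List.replicate j (pb ι H), PicF.IsInvertible A := fun j A hA => by
      rw [List.eq_of_mem_replicate hA]; exact AmpleDevLib.isInvertible_pb ι hH.1
    have hWdim : topologicalKrullDim (CohB1.support (Coh.structureModule W)) ≤
        ((s + 1 + 1 : ℕ) : WithBot ℕ∞) := (topologicalKrullDim_subspace_le _ _).trans hWd.le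
    have h1 := hW1 U hU
    rw [NumTrivLib.N_cons_zero hNU (hpbH _) (DevissLib.isCoh_structureModule W)
      (by rw [List.length_replicate]; exact hWdim), mul_zero] at h1
    have h2 := hW2 U hU
    rw [NumTrivLib.N_cons_zero hNU (List.forall_mem_cons.mpr ⟨AmpleDevLib.isInvertible_pb ι hU, hpbH _⟩)
      (DevissLib.isCoh_structureModule W) (by simpa using hWdim), mul_zero] at h2
    refine BertiniIrrLib.NT_of_index (d := s + 1) hX hH hU ?_ ?_
    · rw [← N_structure (List.forall_mem_cons.mpr ⟨hU, hrep _⟩) (by rw [hX]; simp only [List.length_cons, List.length_replicate])]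
      exact (mul_eq_zero.mp h1.symm).resolve_left hm.ne'
    · rw [← N_structure (List.forall_mem_cons.mpr ⟨hU, List.forall_mem_cons.mpr ⟨hU, hrep _⟩⟩) (by rw [hX]; simp only [List.length_cons, List.length_replicate])]
      exact ((mul_eq_zero.mp h2.symm).resolve_left hm.ne').ge

end BddNumLib

end
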