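import Groth.Agent.BddNumLib.Bounded
import Groth.Agent.HodgeIdxLib.Reduce

/-!
# Bounds from the index theorem on surfaces
-/

set_option autoImplicit false
set_option linter.style.haveILetI false
set_option maxHeartbeats 1000000
universe u

open CategoryTheory CategoryTheory.Limits AlgebraicGeometry TopologicalSpace Opposite
open HilbPolyLib DevissLib IntMultLib IntFunLib HodgeIdxLib
open KFlatLib (pb)

noncomputable section

namespace BddNumLib

variable {k : Type u} [Field k]

/-- Bounded degree and self-intersection bound the pairing with every class. -/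
theorem exists_pr_bound {Z : Scheme.{u}} [Z.Over (Spec (CommRingCat.of k))]
    [IsProper (Z ↘ Spec (CommRingCat.of k))] [IsIntegral Z]
    (hZ : topologicalKrullDim Z = ((2 : ℕ) : WithBot ℕ∞)) {A H : Z.Modules} (hA : CohB1.IsAmple A)
    (hH : PicF.IsInvertible H) (hpos : 0 < pr k H H) {M : Z.Modules} (hM : PicF.IsInvertible M) (B : ℤ) :
    ∃ C : ℤ, ∀ T : Z.Modules, PicF.IsInvertible T → |pr k T H| ≤ B → -B ≤ pr k T T → |pr k T M| ≤ C := by
  haveI := CurvLib.isNoetherian k (X := Z)
  have hneg : ∀ D : Z.Modules, PicF.IsInvertible D → pr k D H = 0 → pr k D D ≤ 0 := fun D hD h => by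
    by_contra hp
    push Not at hp
    have := index hZ hA hH hD hpos h hp.le hD
    omega
  set a := pr k H H
  obtain ⟨v, hv, hve⟩ := exists_comb (k := k) hZ.le hM hH a (-pr k M H)
  have hvH : pr k v H = 0 := by rw [hve H hH]; ring
  refine ⟨a * |pr k M H| * B + a * (B * B + a * |B|) + |pr k v v| + |pr k M H| * B, fun T hT h1 h2 => ?_⟩
  obtain ⟨D, hD, hDe⟩ := exists_comb (k := k) hZ.le hT hH a (-pr k T H)
  have hDH : pr k D H = 0 := by rw [hDe H hH]; ring
  have hDT : pr k D T = a * pr k T T - pr k T H ^ 2 := by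
    rw [hDe T hT, pr_comm H T]; ring
  have hDD : pr k D D = a * (a * pr k T T - pr k T H ^ 2) := by
    rw [hDe D hD, pr_comm T D, pr_comm H D, hDT, hDH]; ring
  have hDv : pr k D v = a * (a * pr k T M - pr k T H * pr k M H) := by
    rw [pr_comm, hve D hD, pr_comm M D, pr_comm H D, hDH, hDe M hM, pr_comm H M]; ring
  have key : ∀ x : ℤ, x * x * pr k D D + 2 * x * pr k D v + pr k v v ≤ 0 := fun x => by
    obtain ⟨E, hE, hEe⟩ := exists_comb (k := k) hZ.le hD hv x 1
    have hEH : pr k E H = 0 := by rw [hEe H hH, hDH, hvH]; ring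
    have := hneg E hE hEH
    rw [hEe E hE, pr_comm D E, pr_comm v E, hEe D hD, hEe v hv, pr_comm v D] at this
    linarith
  have k1 := key 1
  have k2 := key (-1)
  obtain ⟨h1l, h1u⟩ := abs_le.mp h1
  have hB : 0 ≤ B := (abs_nonneg _).trans h1
  have hlow : -(a * (B * B + a * |B|)) ≤ pr k D D := by
    rw [hDD, abs_of_nonneg hB]
    have e1 : pr k T H ^ 2 ≤ B * B := by nlinarith
    have e2 : -(a * B) ≤ a * pr k T T := by nlinarith [mul_le_mul_of_nonneg_left h2 hpos.le]
    nlinarith [mul_le_mul_of_nonneg_left (show -(B * B + a * B) ≤ a * pr k T T - pr k T H ^ 2 by linarith) hpos.le]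
  have hDv' : |pr k D v| ≤ a * (B * B + a * |B|) + |pr k v v| := by
    have := neg_le_abs (pr k v v)
    have h0 : 0 ≤ a * (B * B + a * |B|) :=
      mul_nonneg hpos.le (add_nonneg (mul_self_nonneg B) (mul_nonneg hpos.le (abs_nonneg B)))
    have := abs_nonneg (pr k v v)
    rw [abs_le]
    constructor <;> linarith
  have h3 : |a * pr k T M| ≤ |a * pr k T M - pr k T H * pr k M H| + |pr k T H * pr k M H| := by
    simpa using abs_add_le (a * pr k T M - pr k T H * pr k M H) (pr k T H * pr k M H)
  have h4 : |a * pr k T M - pr k T H * pr k M H| ≤ |pr k D v| := by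
    rw [hDv, abs_mul, abs_of_pos hpos]
    exact le_mul_of_one_le_left (abs_nonneg _) hpos
  have h5 : |pr k T H * pr k M H| ≤ |pr k M H| * B := by
    rw [abs_mul, mul_comm]
    exact mul_le_mul_of_nonneg_left h1 (abs_nonneg _)
  have h6 : |pr k T M| ≤ |a * pr k T M| := by
    rw [abs_mul, abs_of_pos hpos]
    exact le_mul_of_one_le_left (abs_nonneg _) hpos
  have h7 : 0 ≤ a * |pr k M H| * B := mul_nonneg (mul_nonneg hpos.le (abs_nonneg _)) hB
  linarith

variable {X : Scheme.{u}} [X.Over (Spec (CommRingCat.of k))] [IsProper (X ↘ Spec (CommRingCat.of k))]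

/-- Bounded degree and self-intersection bound the degree on every curve. -/
theorem exists_curve_bound {ξ c : X} (hξ : topologicalKrullDim (closure ({ξ} : Set X)) = ((2 : ℕ) : WithBot ℕ∞))
    (hc : c ∈ closure ({ξ} : Set X)) (hcd : topologicalKrullDim (closure ({c} : Set X)) = ((1 : ℕ) : WithBot ℕ∞))
    {H : X.Modules} (hH : PicF.IsInvertible H) (hpos : 0 < N k [H, H] (Fpt ξ)) (B : ℤ) :
    ∃ C : ℤ, ∀ T : X.Modules, PicF.IsInvertible T → |N k [T, H] (Fpt ξ)| ≤ B → -B ≤ N k [T, T] (Fpt ξ) →
      |N k [T] (Fpt c)| ≤ C := by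
  have hξc : ξ ∉ closure ({c} : Set X) := fun h => by
    have hle := dim_mono (isClosed_closure.closure_subset_iff.mpr (Set.singleton_subset_iff.mpr h))
    rw [hξ, hcd] at hle
    have : (2 : ℕ) ≤ 1 := by exact_mod_cast hle
    omega
  obtain ⟨Z, iZ, hZp, hZi, h, A, J, hh, hA, hZd, hgen, hJ, hJs, hgJ, ⟨z, hz⟩⟩ :=
    exists_surface (k := k) hξ hc hξc
  haveI := CurvLib.isNoetherian k (X := X)
  haveI := CurvLib.isNoetherian k (X := Z)
  haveI : IsProper h := isProper_g hh
  have hOc := FormalCohLib.isCoh_push_proper h (DevissLib.isCoh_structureModule Z)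
  have hs : CohB1.support ((Coh.push h).obj (Coh.structureModule Z)) ⊆ closure {ξ} := by
    refine support_push_le h _ isClosed_closure fun w _ => ?_
    rw [Set.mem_preimage, ← hgen]
    exact specializes_iff_mem_closure.mp (((genericPoint_spec Z).specializes trivial).map h.continuous)
  have hmem : ξ ∈ CohB1.support ((Coh.push h).obj (Coh.structureModule Z)) :=
    hgen ▸ mem_support_push_unit h (genericPoint Z)
  obtain ⟨m, hm, hmult⟩ := exists_mult (k := k) hOc hs hmem hξ
  have hpb : ∀ {P Q : X.Modules}, PicF.IsInvertible P → PicF.IsInvertible Q →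
      pr k (pb h P) (pb h Q) = m * N k [P, Q] (Fpt ξ) := by
    intro P Q hP hQ
    rw [← hmult [P, Q] (by simp [hP, hQ]) rfl, ← pr_mult (l := [P, Q]) (by simp [hP, hQ]) hh hZd.le]
    rfl
  have hI := IntMultLib.isInvertible_idealMod J hJ
  obtain ⟨C, hC⟩ := exists_pr_bound hZd hA (AmpleDevLib.isInvertible_pb h hH)
    (by rw [hpb hH hH]; exact mul_pos hm hpos) hI (m * B)
  -- the degree on the curve
  have hQ := CurvLib.isCoh_quotMod J
  have hJd : topologicalKrullDim (CohB1.support (ClSub.quotMod J)) ≤ (1 : ℕ) := by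
    refine (dim_mono (CurvLib.support_quotMod_subset J)).trans (dim_le_iff.mp (dim_lt_of_notMem
      J.support.isClosed (fun w _ => ?_) hgJ (Y := Set.univ) (Set.subset_univ _)
      (dim_le_iff.mpr ((topologicalKrullDim_subspace_le _ _).trans hZd.le))))
    rw [(genericPoint_spec Z).def]; exact trivial
  have hsJ : CohB1.support ((Coh.push h).obj (ClSub.quotMod J)) ⊆ closure {c} :=
    support_push_le h _ isClosed_closure ((CurvLib.support_quotMod_subset J).trans hJs.le)
  have hmemJ : c ∈ CohB1.support ((Coh.push h).obj (ClSub.quotMod J)) := by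
    have hzJ : z ∈ (J.support : Set Z) := by rw [hJs, Set.mem_preimage, hz]; exact subset_closure rfl
    rw [← J.range_subschemeι] at hzJ
    obtain ⟨w, hw⟩ := hzJ
    let e : (Coh.push h).obj (ClSub.quotMod J) ≅
        (Coh.push (J.subschemeι ≫ h)).obj (Coh.structureModule J.subscheme) :=
      (Scheme.Modules.pushforwardComp J.subschemeι h).app _
    rw [DevissLib.support_iso e, ← hz, ← hw]
    exact mem_support_push_unit (J.subschemeι ≫ h) w
  obtain ⟨m', hm', hmult'⟩ := exists_mult (k := k) (FormalCohLib.isCoh_push_proper h hQ) hsJ hmemJ hcd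
  refine ⟨C, fun T hT h1 h2 => ?_⟩
  have hT' := AmpleDevLib.isInvertible_pb h hT
  have hb := hC (pb h T) hT' (by rw [hpb hT hH, abs_mul, abs_of_pos hm]; exact mul_le_mul_of_nonneg_left h1 hm.le)
    (by rw [hpb hT hT, ← mul_neg]; exact mul_le_mul_of_nonneg_left h2 hm.le)
  have hadd := N_add (k := k) (l := [pb h T]) (by simpa using hT') (CurvLib.idealSeq_shortExact J)
    (CurvLib.isCoh_of_isInvertible hI) (DevissLib.isCoh_structureModule Z) (CurvLib.isCoh_quotMod J)
  change N k [pb h T] (Coh.structureModule Z) =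
    N k [pb h T] (ClSub.idealMod J) + N k [pb h T] (ClSub.quotMod J) at hadd
  rw [pr_comm, pr, N_unit] at hb
  have hpush : N k [pb h T] (ClSub.quotMod J) = m' * N k [T] (Fpt c) :=
    (N_push hh (l := [T]) (by simpa using hT) hQ hJd).trans (hmult' [T] (by simpa using hT) rfl)
  have e : |N k [pb h T] (ClSub.idealMod J) - N k [pb h T] (Coh.structureModule Z)| =
      m' * |N k [T] (Fpt c)| := by
    rw [hadd, show N k [pb h T] (ClSub.idealMod J) - (N k [pb h T] (ClSub.idealMod J) +
      N k [pb h T] (ClSub.quotMod J)) = -N k [pb h T] (ClSub.quotMod J) by ring, abs_neg, hpush, abs_mul,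
      abs_of_pos hm']
  rw [e] at hb
  exact (le_mul_of_one_le_left (abs_nonneg _) hm').trans hb

/-- The modules of bounded degree and self-intersection on a surface. -/
theorem isBounded_surface [IsAlgClosed k] [IsIntegral X] (hX : topologicalKrullDim X = ((2 : ℕ) : WithBot ℕ∞))
    {H : X.Modules} (hH : CohB1.IsAmple H) (B : ℤ) :
    Pic13.IsBounded k X (fun T : X.Modules => PicF.IsInvertible T ∧
      |N k [T, H] (Coh.structureModule X)| ≤ B ∧ -B ≤ N k [T, T] (Coh.structureModule X)) := by
  haveI := CurvLib.isNoetherian k (X := X)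
  obtain ⟨n, i, hi, hib⟩ := NumTrivLib.exists_embedding (k := k) hH
  haveI := hi
  refine isBounded_of_isFam i hib ⟨fun T hT => hT.1, ?_, ?_, ?_⟩ hX.le
  · rintro T T' ⟨hT, h1, h2⟩ ⟨e⟩
    have hT' := IntMultLib.isInvertible_of_inverse hT e
    refine ⟨hT', ?_, ?_⟩
    · rw [show N k [T', H] (Coh.structureModule X) = -N k [T, H] (Coh.structureModule X) from
        pr_inverse hX.le hT hT' hH.1 e, abs_neg]
      exact h1
    · rw [show N k [T', T'] (Coh.structureModule X) = N k [T, T] (Coh.structureModule X) from by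
        show pr k T' T' = pr k T T
        rw [pr_inverse hX.le hT hT' hT' e, pr_comm, pr_inverse hX.le hT hT' hT e, neg_neg]]
      exact h2
  · intro e he ξ hξ
    have hgen : topologicalKrullDim (closure ({genericPoint X} : Set X)) = ((2 : ℕ) : WithBot ℕ∞) := by
      rw [dim_closure_generic, hX]
    have hgp : ∀ {l : List X.Modules}, (∀ A ∈ l, PicF.IsInvertible A) → l.length = 2 →
        N k l (Coh.structureModule X) = N k l (Fpt (genericPoint X)) := fun hl hlen =>
      N_structure hl (by rw [hX, hlen])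
    interval_cases e
    · obtain ⟨C, hC⟩ := exists_curve_bound (k := k) hgen
        (specializes_iff_mem_closure.mp ((genericPoint_spec X).specializes trivial)) hξ hH.1
        (N_ample_pos hH hgen) B
      refine ⟨C, fun T ⟨hT, h1, h2⟩ => (le_abs_self _).trans (hC T hT ?_ ?_)⟩
      · rw [← hgp (by simp [hT, hH.1]) rfl]; exact h1
      · rw [← hgp (by simp [hT]) rfl]; exact h2
    · have hξ' : ξ = genericPoint X := (eq_of_specializes_of_dim isClosed_univ
        ((topologicalKrullDim_subspace_le _ _).trans hX.le) hξ trivial ((genericPoint_spec X).specializes trivial)).symm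
      obtain ⟨C, hC⟩ := exists_pr_bound (k := k) hX hH hH.1 (pr_ample_pos (k := k) hX hH) (twI_inv i 1) B
      refine ⟨C, fun T ⟨hT, h1, h2⟩ => ?_⟩
      rw [hξ', ← hgp (by simp [hT, twI_inv]) (by simp)]
      exact (le_abs_self _).trans (hC T hT h1 h2)
  · intro ξ hξ
    have hξ' : ξ = genericPoint X := (eq_of_specializes_of_dim isClosed_univ
      ((topologicalKrullDim_subspace_le _ _).trans hX.le) hξ trivial ((genericPoint_spec X).specializes trivial)).symm
    refine ⟨B, fun T ⟨hT, _, h2⟩ => ?_⟩
    rw [hξ', ← N_structure (l := [T, T]) (by simp [hT]) (by rw [hX]; simp)]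
    exact h2

end BddNumLib

end
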