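import Groth.Agent.BddNumLib.Conv
import Groth.Agent.MeroLib.ZeroScheme
import Groth.Agent.NumTrivLib.Mult

/-!
# Restriction to the zero scheme of a section of an ample module
-/

set_option autoImplicit false
set_option linter.style.haveILetI false
set_option maxHeartbeats 1000000
universe u

open CategoryTheory CategoryTheory.Limits AlgebraicGeometry TopologicalSpace Opposite
open HilbPolyLib DevissLib IntMultLib IntFunLib AmpleLib AmpleThLib
open KFlatLib (pb)
open NumTrivLib (NT)
open TwistLib (genSet)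

noncomputable section

namespace BddNumLib

/-- The points of the zero scheme. -/
theorem mem_zeroScheme_iff {X : Scheme.{u}} {L : X.Modules} (hL : PicF.IsInvertible L)
    (s : Coh.structureModule X ⟶ L) (x : X) :
    x ∈ (PicF2.zeroScheme L s).support ↔ x ∉ CohB1.genLocus L s := by
  obtain ⟨U, e, hxU, he⟩ := TwistLib.exists_genOn hL x
  obtain ⟨W, hW, hxW, hWU⟩ := exists_isAffineOpen_mem_and_subset hxU
  have hg := he.res (hWU : W ≤ U)
  obtain ⟨c, hc⟩ := (hg W le_rfl).2 (MeroLib.secOn s W)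
  simp only [AmpleLib.res_refl] at hc
  have hI := MeroLib.zeroScheme_ideal_of_genOn (W := ⟨W, hW⟩) hL s hg hc
  rw [← MeroLib.secOn_res s (le_top : W ≤ ⊤)] at hc
  have h1 := SetLike.ext_iff.mp (mem_genSet_coeff hL (s.app ⊤ (1 : Γ(X, ⊤))) hg hc) x
  have h2 := Set.ext_iff.mp (Scheme.IdealSheafData.coe_support_inter (PicF2.zeroScheme L s) ⟨W, hW⟩) x
  simp only [hI, Set.mem_inter_iff, Scheme.zeroLocus_span, Scheme.mem_zeroLocus_iff, Set.mem_singleton_iff,
    forall_eq, SetLike.mem_coe, hxW, and_true] at h2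
  rw [h2, AmpleThLib.genLocus_hom hL s, ← h1]
  exact ⟨fun h h' => h ⟨h', hxW⟩, fun h h' => h h'.1⟩

variable {k : Type u} [Field k] {Y : Scheme.{u}} [Y.Over (Spec (CommRingCat.of k))]
  [IsProper (Y ↘ Spec (CommRingCat.of k))]

/-- Numbers of a point and of its image under a closed immersion. -/
theorem exists_transfer {Z : Scheme.{u}} [Z.Over (Spec (CommRingCat.of k))] [IsProper (Z ↘ Spec (CommRingCat.of k))]
    (g : Z ⟶ Y) [IsClosedImmersion g] (hg : g ≫ (Y ↘ Spec (CommRingCat.of k)) = Z ↘ Spec (CommRingCat.of k))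
    (η : Z) {d : ℕ} (hη : topologicalKrullDim (closure ({η} : Set Z)) = (d : WithBot ℕ∞)) :
    ∃ μ : ℤ, 0 < μ ∧ ∀ l : List Y.Modules, (∀ A ∈ l, PicF.IsInvertible A) → l.length = d →
      N k (l.map (pb g)) (Fpt η) = μ * N k l (Fpt (g η)) := by
  haveI := CurvLib.isNoetherian k (X := Z)
  haveI := CurvLib.isNoetherian k (X := Y)
  have hsC : CohB1.support ((Coh.push g).obj (Fpt η)) ⊆ closure {g η} := by
    refine HodgeIdxLib.support_push_le g _ isClosed_closure ?_
    rw [supp_Fpt k]
    refine closure_minimal (Set.singleton_subset_iff.mpr (subset_closure rfl)) ?_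
    exact isClosed_closure.preimage g.continuous
  have hmem : g η ∈ CohB1.support ((Coh.push g).obj (Fpt η)) := by
    let e : (Coh.push g).obj (Fpt η) ≅
        (Coh.push ((ptIdeal η).subschemeι ≫ g)).obj (Coh.structureModule (ptIdeal η).subscheme) :=
      (Scheme.Modules.pushforwardComp (ptIdeal η).subschemeι g).app _
    obtain ⟨w, hw⟩ : η ∈ Set.range (ptIdeal η).subschemeι := (range_ptIdeal η).symm ▸ subset_closure rfl
    have hwc : ((ptIdeal η).subschemeι ≫ g) w = g η := congrArg g hw
    rw [DevissLib.support_iso e]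
    exact hwc ▸ HodgeIdxLib.mem_support_push_unit ((ptIdeal η).subschemeι ≫ g) w
  haveI : IsProper g := isProper_g hg
  obtain ⟨ν, hν, hmult⟩ := HodgeIdxLib.exists_mult (k := k)
    (FormalCohLib.isCoh_push_proper g (coh_Fpt k η)) hsC hmem ((dim_closure_image g η).trans hη)
  refine ⟨ν, hν, fun l hl hlen => ?_⟩
  rw [N_push hg hl (coh_Fpt k η) (by rw [supp_Fpt k, hη, hlen]), hmult l hl hlen]

/-- A module numerically trivial on a closed subscheme has vanishing numbers there. -/
theorem N_eq_zero_of_restrict {Z : Scheme.{u}} [Z.Over (Spec (CommRingCat.of k))]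
    [IsProper (Z ↘ Spec (CommRingCat.of k))] (g : Z ⟶ Y) [IsClosedImmersion g]
    (hg : g ≫ (Y ↘ Spec (CommRingCat.of k)) = Z ↘ Spec (CommRingCat.of k)) {L : Y.Modules}
    (hL : PicF.IsInvertible L) (hLZ : NT k (pb g L)) {η : Y} (hη : η ∈ Set.range g) {l : List Y.Modules}
    (hl : ∀ A ∈ l, PicF.IsInvertible A)
    (hd : topologicalKrullDim (closure ({η} : Set Y)) = ((l.length + 1 : ℕ) : WithBot ℕ∞)) :
    N k (L :: l) (Fpt η) = 0 := by
  obtain ⟨η', rfl⟩ := hη
  rw [dim_closure_image] at hd
  obtain ⟨μ, hμ, hmult⟩ := exists_transfer (k := k) g hg η' hd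
  have h := hmult (L :: l) (List.forall_mem_cons.mpr ⟨hL, hl⟩) (by simp)
  have hl' : ∀ A ∈ l.map (pb g), PicF.IsInvertible A := fun A hA => by
    obtain ⟨B, hB, rfl⟩ := List.mem_map.mp hA
    exact AmpleDevLib.isInvertible_pb g (hl B hB)
  rw [List.map_cons, NumTrivLib.N_cons_zero hLZ hl' (coh_Fpt k η')
    (by rw [supp_Fpt k, hd, List.length_map])] at h
  exact (mul_eq_zero.mp h.symm).resolve_left hμ.ne'

/-- **Restriction to an ample hypersurface section is injective modulo numerical equivalence.** -/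
theorem NT_of_restrict [IsAlgClosed k] {H : Y.Modules} (hH : CohB1.IsAmple H) (φ : Coh.structureModule Y ⟶ H)
    (hdim : ∀ Z ∈ irreducibleComponents (Y : Type u), ∀ W ∈ irreducibleComponents
      ↥(Z ∩ Set.range (PicF2.zeroScheme H φ).subschemeι.base), 2 ≤ topologicalKrullDim ↥W)
    [(PicF2.zeroScheme H φ).subscheme.Over (Spec (CommRingCat.of k))]
    [IsProper ((PicF2.zeroScheme H φ).subscheme ↘ Spec (CommRingCat.of k))]
    (hι : (PicF2.zeroScheme H φ).subschemeι ≫ (Y ↘ Spec (CommRingCat.of k)) =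
      (PicF2.zeroScheme H φ).subscheme ↘ Spec (CommRingCat.of k))
    {L : Y.Modules} (hL : PicF.IsInvertible L) (hLX : NT k (pb (PicF2.zeroScheme H φ).subschemeι L)) : NT k L := by
  haveI := CurvLib.isNoetherian k (X := Y)
  let ι := (PicF2.zeroScheme H φ).subschemeι
  have hrange : ∀ x, x ∈ Set.range ι ↔ x ∉ CohB1.genLocus H φ := fun x => by
    rw [(PicF2.zeroScheme H φ).range_subschemeι, SetLike.mem_coe, mem_zeroScheme_iff hH.1 φ]
  refine ⟨hL, fun C hC hCd => ?_⟩
  haveI := hC
  rw [← IntFunLib.N_singleton (k := k) L C, IntFunLib.eq_ptIdeal C]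
  set c := C.subschemeι (genericPoint C.subscheme)
  have hc : topologicalKrullDim (closure ({c} : Set Y)) = ((1 : ℕ) : WithBot ℕ∞) := by
    rw [IntFunLib.dim_generic_of_support, hCd, Nat.cast_one]
  by_cases hcX : c ∈ Set.range ι
  · exact N_eq_zero_of_restrict ι hι hL hLX hcX (l := []) (by simp) (by rw [hc]; simp)
  -- the component through `c`
  obtain ⟨K, hK, hle⟩ := exists_mem_irreducibleComponents_subset_of_isIrreducible {c} isIrreducible_singleton
  have hKc : IsClosed K := isClosed_of_mem_irreducibleComponents K hK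
  obtain ⟨z, hz⟩ : ∃ z, closure ({z} : Set Y) = K :=
    ⟨hK.1.genericPoint, by rw [hK.1.isGenericPoint_genericPoint_closure.def, hKc.closure_eq]⟩
  have hcz : c ∈ closure ({z} : Set Y) := hz ▸ hle rfl
  haveI := isIntegral_ptIdeal z
  let Z := (ptIdeal z).subscheme
  let g : Z ⟶ Y := (ptIdeal z).subschemeι
  letI : Z.Over (Spec (CommRingCat.of k)) := ⟨g ≫ (Y ↘ Spec (CommRingCat.of k))⟩
  haveI : IsProper (Z ↘ Spec (CommRingCat.of k)) := inferInstanceAs (IsProper (g ≫ (Y ↘ Spec (CommRingCat.of k))))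
  haveI := CurvLib.isNoetherian k (X := Z)
  have hgr : Set.range g = K := (range_ptIdeal z).trans hz
  obtain ⟨c', hc'⟩ : c ∈ Set.range g := hgr.symm ▸ hle rfl
  have hgenZ : g (genericPoint Z) = z := by
    refine IsGenericPoint.eq ?_ (isGenericPoint_closure (x := z))
    have := (genericPoint_spec Z).image g.continuous
    rwa [Set.image_univ, range_ptIdeal, closure_closure] at this
  -- the section on `Z`
  let φZ := (KFlatLib.pullUnitIso g).inv ≫ (Scheme.Modules.pullback g).map φ
  have hHZ := AmpleDevLib.isAmple_pb g hH.1 hH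
  let σ := φZ.app ⊤ (1 : Γ(Z, ⊤))
  have hφσ : φZ = QCohLib.unitHom (pb g H) σ := AmpleThLib.unitHom_eq φZ
  have hpre : ∀ y : Z, y ∉ genSet hHZ.1 σ → g y ∈ Set.range ι := fun y hy => by
    rw [hrange]
    intro hy'
    refine hy ?_
    rw [← AmpleThLib.genLocus_hom hHZ.1 φZ]
    exact NumTrivLib.preimage_genLocus_le g φ hy'
  have hgen : genericPoint Z ∈ genSet hHZ.1 σ := by
    by_contra h
    have hzX := hpre _ h
    rw [hgenZ] at hzX
    exact hcX ((ι.isClosedEmbedding.isClosed_range.closure_subset_iff.mpr (Set.singleton_subset_iff.mpr hzX)) hcz)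
  have hφ : φZ ≠ 0 := fun h => by
    have hs := BertiniIrrLib.surjective_unitHom_of_genAt (x := genericPoint Z) σ hgen
    have h0 : ∀ b : (St (genericPoint Z)).obj (pb g H), b = 0 := fun b => by
      obtain ⟨a, rfl⟩ := hs b
      rw [← hφσ, h, Functor.map_zero]
      rfl
    have := hgen.1 (a₁ := 1) (a₂ := 0) ((h0 _).trans (h0 _).symm)
    exact one_ne_zero this
  obtain ⟨r, hr⟩ : ∃ r : ℕ, topologicalKrullDim Z = (r : WithBot ℕ∞) := by
    obtain ⟨D, hD⟩ := exists_dim_lt k (X := Z)
    have h0 : topologicalKrullDim Z ≠ ⊥ := by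
      rw [topologicalKrullDim, ne_eq, Order.krullDim_eq_bot_iff, not_isEmpty_iff]
      exact ⟨⟨Set.univ, IrreducibleSpace.isIrreducible_univ Z, isClosed_univ⟩⟩
    revert hD h0
    generalize topologicalKrullDim Z = t
    intro hD h0
    induction t with
    | bot => exact absurd rfl h0
    | coe a =>
      induction a with
      | top => exact absurd hD.le (not_le.mpr (WithBot.coe_lt_coe.mpr (ENat.coe_lt_top D)))
      | coe m => exact ⟨m, rfl⟩
  have hzd : topologicalKrullDim (closure ({z} : Set Y)) = (r : WithBot ℕ∞) := by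
    rw [← hgenZ, dim_closure_image, dim_closure_generic, hr]
  have hr1 : 1 ≤ r := by
    have hle := dim_mono (isClosed_closure.closure_subset_iff.mpr (Set.singleton_subset_iff.mpr hcz))
    rw [hc, hzd] at hle
    exact_mod_cast hle
  obtain ⟨r, rfl⟩ : ∃ r', r = r' + 1 := ⟨r - 1, by omega⟩
  obtain ⟨hCc, hCd'⟩ := HodgeIdxLib.dim_cokernel_le k hr hHZ.1 hφ
  have hsub : ∀ y ∈ CohB1.support (cokernel φZ), g y ∈ Set.range ι := fun y hy => hpre y fun hyg => by
    have hs := BertiniIrrLib.surjective_unitHom_of_genAt σ hyg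
    rw [← hφσ] at hs
    exact DevissLib.notMem_support_cokernel φZ y hs hy
  have hcok : ∀ l : List Z.Modules, (∀ A ∈ l, PicF.IsInvertible A) → l.length = r →
      N k (pb g H :: l) (Coh.structureModule Z) = N k l (cokernel φZ) := fun l hl hlen => by
    have h2 := N_add (k := k) hl (HodgeIdxLib.cokSeq_shortExact hHZ.1 hφ) (DevissLib.isCoh_structureModule Z)
      (CurvLib.isCoh_of_isInvertible hHZ.1) hCc
    change N k l (pb g H) = N k l (Coh.structureModule Z) + N k l (cokernel φZ) at h2
    rw [HodgeIdxLib.N_unit]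
    omega
  -- the dimension is at least three
  obtain ⟨s, rfl⟩ : ∃ s, r = s + 2 := by
    refine ⟨r - 2, ?_⟩
    have hne : (Set.range g ∩ Set.range ι).Nonempty := by
      by_contra he
      rw [Set.not_nonempty_iff_eq_empty] at he
      have hempty : CohB1.support (cokernel φZ) = ∅ := Set.eq_empty_of_forall_notMem fun y hy =>
        (Set.eq_empty_iff_forall_notMem.mp he) (g y) ⟨⟨y, rfl⟩, hsub y hy⟩
      have hl : ∀ A ∈ List.replicate r (pb g H), PicF.IsInvertible A := fun A hA => by
        rw [List.eq_of_mem_replicate hA]; exact hHZ.1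
      have h := hcok _ hl List.length_replicate
      rw [N_low hl hCc (NumTrivLib.dim_lt_of_isZero (isZero_of_support_empty hempty) _)] at h
      have hpos := N_ample_pos (k := k) (d := r + 1) hHZ (show topologicalKrullDim
        (closure ({genericPoint Z} : Set Z)) = _ by rw [dim_closure_generic, hr])
      rw [← N_structure (fun A hA => by rw [List.eq_of_mem_replicate hA]; exact hHZ.1) (by simp [hr]),
        List.replicate_succ, h] at hpos
      exact lt_irrefl _ hpos
    rw [hgr] at hne
    obtain ⟨p, hp⟩ := hne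
    obtain ⟨W, hW, -⟩ := exists_mem_irreducibleComponents_subset_of_isIrreducible
      ({⟨p, hp⟩} : Set ↥(K ∩ Set.range ι)) isIrreducible_singleton
    have h2 := (hdim K hK W hW).trans (topologicalKrullDim_subspace_le _ _)
    have hzX : z ∉ K ∩ Set.range ι := fun h => hcX
      ((ι.isClosedEmbedding.isClosed_range.closure_subset_iff.mpr (Set.singleton_subset_iff.mpr h.2)) hcz)
    have hlt : topologicalKrullDim ↥(K ∩ Set.range ι) ≤ ((r : ℕ) : WithBot ℕ∞) :=
      dim_le_iff.mp (dim_lt_of_notMem (Y := K) (hKc.inter ι.isClosedEmbedding.isClosed_range)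
        (fun y hy => by rw [hz]; exact hy.1) hzX (fun y hy => hz.le hy)
        (dim_le_iff.mpr (hz ▸ hzd).le))
    have h3 : ((2 : ℕ) : WithBot ℕ∞) ≤ ((r : ℕ) : WithBot ℕ∞) := by
      exact_mod_cast h2.trans hlt
    have : 2 ≤ r := by exact_mod_cast h3
    omega
  -- the numbers
  have hzero : ∀ l : List Y.Modules, (∀ A ∈ l, PicF.IsInvertible A) → l.length = s + 1 →
      N k (pb g H :: pb g L :: l.map (pb g)) (Coh.structureModule Z) = 0 := fun l hl hlen => by
    have hl' : ∀ A ∈ pb g L :: l.map (pb g), PicF.IsInvertible A :=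
      List.forall_mem_cons.mpr ⟨AmpleDevLib.isInvertible_pb g hL, fun A hA => by
        obtain ⟨B, hB, rfl⟩ := List.mem_map.mp hA
        exact AmpleDevLib.isInvertible_pb g (hl B hB)⟩
    have hlen' : (pb g L :: l.map (pb g)).length = s + 2 := by simp [hlen]
    rw [hcok _ hl' hlen']
    rcases (CohB1.support (cokernel φZ)).eq_empty_or_nonempty with he | hne
    · exact N_low hl' hCc (NumTrivLib.dim_lt_of_isZero (isZero_of_support_empty he) _)
    obtain ⟨T, hT, -, hsum⟩ := N_sum (k := k) hl' hCc hne (by rw [hlen']; exact hCd')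
    rw [hsum]
    refine Finset.sum_eq_zero fun η hη => ?_
    obtain ⟨hη1, hη2⟩ := (hT η).mp hη
    rw [hlen'] at hη2
    obtain ⟨μ, -, hmult⟩ := exists_transfer (k := k) g rfl η hη2
    have h := hmult (L :: l) (List.forall_mem_cons.mpr ⟨hL, hl⟩) (by simp [hlen])
    rw [List.map_cons] at h
    rw [h, N_eq_zero_of_restrict ι hι hL hLX (hsub η hη1) hl (by rw [dim_closure_image, hη2, hlen]),
      mul_zero, smul_zero]
  have hrep : ∀ j, ∀ A ∈ List.replicate j H, PicF.IsInvertible A := fun j A hA => by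
    rw [List.eq_of_mem_replicate hA]; exact hH.1
  have hrepZ : ∀ j, ∀ A ∈ List.replicate j (pb g H), PicF.IsInvertible A := fun j A hA => by
    rw [List.eq_of_mem_replicate hA]; exact hHZ.1
  have h1 := hzero (List.replicate (s + 1) H) (hrep _) List.length_replicate
  have h2 := hzero (L :: List.replicate s H) (List.forall_mem_cons.mpr ⟨hL, hrep _⟩) (by simp)
  rw [List.map_replicate, N_perm (List.Perm.swap (pb g L) (pb g H) _),
    N_structure (List.forall_mem_cons.mpr ⟨AmpleDevLib.isInvertible_pb g hL,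
      List.forall_mem_cons.mpr ⟨hHZ.1, hrepZ _⟩⟩) (by simp [hr]; ring)] at h1
  rw [List.map_cons, List.map_replicate,
    N_perm ((List.Perm.swap (pb g L) (pb g H) _).trans ((List.Perm.swap (pb g L) (pb g H) _).cons (pb g L))),
    N_structure (List.forall_mem_cons.mpr ⟨AmpleDevLib.isInvertible_pb g hL,
      List.forall_mem_cons.mpr ⟨AmpleDevLib.isInvertible_pb g hL,
        List.forall_mem_cons.mpr ⟨hHZ.1, hrepZ _⟩⟩⟩) (by simp [hr]; ring)] at h2
  have hNT := BertiniIrrLib.NT_of_index (k := k) (d := s + 1) hr hHZ (AmpleDevLib.isInvertible_pb g hL) h1 h2.ge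
  have hc'd : topologicalKrullDim (closure ({c'} : Set Z)) = (([] : List Y.Modules).length + 1 : ℕ) := by
    rw [← dim_closure_image g, hc', hc]; rfl
  exact N_eq_zero_of_restrict g rfl hL hNT ⟨c', hc'⟩ (l := []) (by simp) (by rw [hc]; rfl)

end BddNumLib

end
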